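import Mathlib
import Cfsg.Agent.Lib.MonK.Tab
import Cfsg.Agent.Lib.Mon.DceT1

/-!
Part 0 of the certificate of the double coset enumeration number 1 (generated by `tools/mon/genchunks.py`).
-/

set_option autoImplicit false
set_option maxRecDepth 100000
set_option Elab.async false

namespace CfsgLib.MonK.Dce

open CfsgLib.DCX CfsgLib.Mon.Dce

/-- steps of the enumeration -/
noncomputable def c1_0_i : List Item :=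
 [.df [24,32,24,32,24,4064,4064,40],
  .df [32,4064,40,40,24,4064,24,4064],
  .df [24,40,32,40,24,4064,32,32],
  .df [32,4064,4064,4064,40,32,24,40],
  .df [32,32,24,24,4064,4064,40,40],
  .df [24,24,32,24,4064,40,32,4064],
  .df [4064,24,24,40,40,32,32,24],
  .df [40,40,4064,32,40,24,40,24],
  .df [8,8,32,40,16,4064,24,24,24,16,24,8,24,40],
  .df [16,40,8,32,4064,32,24,40,24,24,40,24,32,24],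
  .df [16,40,32,4064,4064,40,24,24,8,8,24,16,32,32],
  .df [32,40,32,40,8,4064,16,4064,24,24,24,8,8,4064],
  .df [32,8,4064,8,4064,40,40,8,32,4064,40,16,16,24],
  .df [40,4064,32,8,4064,24,24,8,16,40,4064,32,8,4064],
  .df [8,16,4064,4064,40,8,4064,24,16,16,40,32,32,8],
  .df [16,8,24,32,8,40,16,16,24,40,32,16],
  .fc [⟨0,0,[259],[4193]⟩] [],
  .df [8,16,16,16,16,24,8,24,16,40,32,8],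
  .fc [⟨0,0,[259],[4201]⟩] [],
  .fc [⟨2,0,[520,520,522,520,522,520,522],[]⟩] [],
  .fc [⟨2,0,[520,520,520,520,522,522,520,520],[]⟩] [],
  .fc [⟨2,0,[522,522,522,520,520,522,522,520,522],[]⟩] [],
  .fc [⟨2,0,[522,520,522,522,522,520,520],[]⟩] [],
  .fc [⟨2,0,[520,520,522,520,522,522,520,522],[]⟩] [],
  .fc [⟨2,0,[520,520,522,520,520,520,520,522,522],[]⟩] [],
  .fc [⟨2,0,[522,520,522,520,520,522,522],[]⟩] [],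
  .fc [⟨2,0,[522,520,520,520,520,522,522,522],[]⟩] [],
  .fc [] [],
  .fc [⟨1,0,[270],[]⟩,⟨0,0,[1],[]⟩] [],
  .fc [⟨1,0,[270],[]⟩,⟨2,0,[528,528,530,528,526,528,538,524,534,530,536,538,526,530,528],[7]⟩,⟨0,0,[270],[7,4136]⟩] [],
  .fc [⟨1,0,[270],[]⟩,⟨2,0,[524,534,538,532,536,536,534,536,528,532,528,536,532,530],[7]⟩,⟨0,0,[270],[7,4136]⟩] [],
  .df [4072,4,16],
  .fc [⟨0,0,[3],[4072]⟩] [],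
  .fc [⟨1,0,[258],[7,0]⟩,⟨0,0,[274],[]⟩,⟨2,0,[532,536,530,530,524,536,538],[7]⟩,⟨0,0,[270],[7,4136]⟩] [],
  .fc [⟨1,0,[275],[]⟩,⟨2,0,[532,536,530,530,524,536,538],[7]⟩,⟨0,0,[270],[7,4136]⟩] [],
  .fc [⟨2,0,[546,546,552,552,544,552,546],[]⟩] [],
  .fc [⟨2,0,[552,552,544,552,546,544,552,552],[]⟩] [],
  .fc [⟨2,0,[546,546,546,544,552,552,544,544,546],[]⟩] [],
  .fc [⟨2,0,[544,544,544,546,552,546,552],[]⟩] [],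
  .fc [⟨2,0,[552,546,544,546,552,546,544,544],[]⟩] [],
  .fc [⟨2,0,[546,544,552,546,544,552,544,546,552],[]⟩] [],
  .fc [⟨2,0,[544,546,552,552,552,552,546],[]⟩] [],
  .fc [⟨2,0,[552,552,546,546,544,552,544,544],[]⟩] [],
  .fc [⟨1,0,[270],[]⟩,⟨0,0,[0],[]⟩,⟨2,0,[538,538,538,538,538],[7]⟩,⟨0,0,[270],[7,4136]⟩] [],
  .fc [⟨0,0,[3],[]⟩] [],
  .fc [⟨1,0,[270],[]⟩,⟨0,0,[286],[]⟩,⟨2,0,[524,524,526,524,538,538,536,538],[7]⟩,⟨0,0,[270],[7,4136]⟩] [],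
  .df [4160,4136],
  .fc [] [],
  .fc [⟨1,0,[288],[]⟩,⟨0,0,[1],[]⟩] [],
  .fc [⟨1,0,[288],[]⟩,⟨2,0,[528,538,534,532,530,526,528,530,534,538,532,532,532,526,532],[7]⟩,⟨0,0,[288],[7,4408]⟩] [],
  .fc [⟨1,0,[288],[]⟩,⟨2,0,[526,536,538,536,534,534,524,532,534,536,532,524,524,538,528,536],[7]⟩,⟨0,0,[288],[7,4408]⟩] [],
  .fc [⟨2,0,[582,580,580,582,582,580,580],[]⟩] [],
  .fc [⟨2,0,[582,582,582,580,580,582,582,580],[]⟩] [],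
  .fc [⟨2,0,[582,582,582,580,580,582,580,580,580],[]⟩] [],
  .fc [⟨2,0,[580,582,580,582,582,582,580],[]⟩] [],
  .fc [⟨2,0,[582,580,582,580,580,582,582,580],[]⟩] [],
  .fc [⟨2,0,[580,582,582,582,582,582,580,580,582],[]⟩] [],
  .fc [⟨2,0,[580,580,580,580,582,582,580],[]⟩] [],
  .fc [⟨2,0,[582,582,582,582,582,582,582,580],[]⟩] [],
  .fc [⟨1,0,[270],[]⟩,⟨0,0,[274],[]⟩,⟨2,0,[532,524,528,536,536,528,536,538],[7]⟩,⟨0,0,[288],[7,4408]⟩] [],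
  .df [4504,8],
  .fc [⟨1,0,[300],[]⟩,⟨0,1,[1],[]⟩] [],
  .fc [⟨1,0,[288],[]⟩,⟨0,0,[0],[]⟩,⟨2,0,[526,534,532,530,532,534,532],[7]⟩,⟨0,0,[288],[7,4408]⟩] [],
  .fc [⟨1,0,[288],[]⟩,⟨0,0,[286],[]⟩,⟨2,0,[524,526,534,530,530,530,532,532],[7]⟩,⟨0,0,[288],[7,4408]⟩] [],
  .df [4088,4080,4,16],
  .fc [⟨0,0,[3],[4088,4080]⟩] [],
  .df [4504,4544],
  .fc [⟨1,0,[300],[]⟩,⟨0,1,[304],[]⟩,⟨2,0,[556,564,568,558,564,566,566],[]⟩,⟨0,0,[300],[]⟩] [],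
  .df [4152,4136],
  .fc [] [],
  .fc [⟨1,0,[306],[]⟩,⟨0,1,[1],[]⟩] []]

theorem c1_0 : chk opsK elT1.get fsT1.get 574 308 c1_0_i 509 260 = true := by decide +kernel

/-- steps of the enumeration -/
noncomputable def c1_1_i : List Item :=
 [.fc [⟨1,0,[306],[]⟩,⟨2,0,[556,558,556,556,562,566,560,554,554,556,564,568,560,560,562],[]⟩,⟨0,0,[306],[]⟩] [],
  .df [4080,4,16],
  .fc [⟨0,0,[3],[4080]⟩] [],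
  .df [4400,4600],
  .fc [⟨1,0,[287],[]⟩,⟨0,1,[309],[]⟩,⟨2,0,[556,560,554,564,562,568],[]⟩,⟨0,0,[306],[]⟩] [],
  .fc [⟨1,0,[310],[]⟩,⟨2,0,[558,554,566,564,556,560,556,566],[]⟩,⟨0,0,[306],[]⟩] [],
  .fc [⟨2,0,[616,622,616,616,616,622,616],[]⟩] [],
  .fc [⟨2,0,[622,616,616,622,616,616,616,622],[]⟩] [],
  .fc [⟨2,0,[616,622,616,616,622,616,622,616,616],[]⟩] [],
  .fc [⟨2,0,[622,616,622,616,616,616,622],[]⟩] [],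
  .fc [⟨2,0,[616,622,622,616,616,616,622,622],[]⟩] [],
  .fc [⟨2,0,[616,622,616,622,622,622,622,622,616],[]⟩] [],
  .fc [⟨2,0,[622,622,622,616,622,616,622],[]⟩] [],
  .fc [⟨2,0,[622,616,622,622,616,622,622,622],[]⟩] [],
  .df [4504,4296],
  .fc [⟨1,0,[300],[]⟩,⟨0,1,[274],[]⟩,⟨2,0,[554,562,568,568,560,566,562],[]⟩,⟨0,0,[306],[]⟩] [],
  .df [4712,8],
  .fc [⟨1,0,[320],[]⟩,⟨0,1,[1],[]⟩] [],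
  .df [4096,4,16],
  .fc [⟨0,0,[3],[4096]⟩] [],
  .df [4504,4736],
  .fc [⟨1,0,[300],[]⟩,⟨0,1,[322],[]⟩,⟨2,0,[564,558,560,560,556,562],[]⟩,⟨0,0,[306],[]⟩] [],
  .df [4760,8],
  .fc [⟨1,0,[323],[]⟩,⟨0,1,[1],[]⟩] [],
  .fc [⟨1,0,[306],[]⟩,⟨0,1,[0],[]⟩,⟨2,0,[558,558,558,558,558,558],[]⟩,⟨0,0,[306],[]⟩] [],
  .fc [⟨1,0,[306],[]⟩,⟨0,1,[274],[]⟩,⟨2,0,[556,558,560,556,554,556,566,560],[]⟩,⟨0,0,[306],[]⟩] [],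
  .df [4088,4,16],
  .fc [⟨0,0,[3],[4088]⟩] [],
  .fc [⟨1,0,[306],[]⟩,⟨0,1,[327],[]⟩,⟨2,0,[554,562,554,566,560,556,564,556,566],[]⟩,⟨0,0,[306],[]⟩] [],
  .df [4104,4,16],
  .fc [⟨0,0,[3],[4104]⟩] [],
  .fc [⟨1,0,[306],[]⟩,⟨0,1,[329],[]⟩,⟨2,0,[562,554,560,566,556,556,568,566],[]⟩,⟨0,0,[306],[]⟩] [],
  .df [4112,4088,4,16],
  .fc [⟨0,0,[3],[4112,4088]⟩] [],
  .fc [⟨1,0,[306],[]⟩,⟨0,1,[331],[]⟩,⟨2,0,[554,568,556,566,560,562,560],[]⟩,⟨0,0,[306],[]⟩] [],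
  .df [4088,4096,4,16],
  .fc [⟨0,0,[3],[4088,4096]⟩] [],
  .fc [⟨1,0,[306],[]⟩,⟨0,1,[333],[]⟩,⟨2,0,[554,560,562,562,562,560,564,560],[]⟩,⟨0,0,[306],[]⟩] [],
  .fc [] [],
  .fc [⟨1,0,[335],[]⟩,⟨0,1,[1],[]⟩] [],
  .fc [⟨1,0,[335],[]⟩,⟨2,0,[564,562,556,556,556,566,562,562,566,554,568,560,568,566],[]⟩,⟨0,0,[335],[]⟩] [],
  .df [4400,4296],
  .fc [⟨1,0,[287],[]⟩,⟨0,1,[274],[]⟩,⟨2,0,[566,568,568,560,562,566,554,564],[]⟩,⟨0,0,[335],[]⟩] [],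
  .fc [⟨1,0,[338],[]⟩,⟨2,0,[558,562,564,556,556,568,568],[]⟩,⟨0,0,[335],[]⟩] [],
  .fc [⟨2,0,[674,674,674,674,678,674,674],[]⟩] [],
  .fc [⟨2,0,[674,678,674,674,678,674,674,678],[]⟩] [],
  .fc [⟨2,0,[674,674,678,674,674,674,678,678,678],[]⟩] [],
  .fc [⟨2,0,[678,674,678,674,674,678,674],[]⟩] [],
  .fc [⟨2,0,[674,674,678,674,674,678,678,674],[]⟩] [],
  .fc [⟨2,0,[678,674,678,674,678,674,678,674,678],[]⟩] [],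
  .fc [⟨2,0,[678,678,674,678,678,674,678],[]⟩] [],
  .fc [⟨2,0,[674,678,678,674,674,678,678,674],[]⟩] [],
  .df [4128,4,16],
  .fc [⟨0,0,[3],[4128]⟩] [],
  .df [4504,5000],
  .fc [⟨1,0,[300],[]⟩,⟨0,1,[348],[]⟩,⟨2,0,[566,562,560,568,564,556,556],[]⟩,⟨0,0,[335],[]⟩] [],
  .df [5024,8],
  .fc [⟨1,0,[349],[]⟩,⟨0,1,[1],[]⟩] [],
  .fc [⟨1,0,[306],[]⟩,⟨0,1,[322],[]⟩,⟨2,0,[554,562,566,556,560,556,560,568],[]⟩,⟨0,0,[335],[]⟩] [],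
  .df [5048,8],
  .fc [⟨1,0,[351],[]⟩,⟨0,2,[1],[]⟩] [],
  .df [4120,4,16],
  .fc [⟨0,0,[3],[4120]⟩] [],
  .fc [⟨1,0,[306],[]⟩,⟨0,1,[353],[]⟩,⟨2,0,[558,564,568,564,564,558,564,558],[]⟩,⟨0,0,[335],[]⟩] [],
  .df [5088,8],
  .fc [⟨1,0,[354],[]⟩,⟨0,2,[1],[]⟩] [],
  .fc [⟨1,0,[335],[]⟩,⟨0,1,[0],[]⟩,⟨2,0,[560,560,560,560],[]⟩,⟨0,0,[335],[]⟩] [],
  .fc [⟨1,0,[335],[]⟩,⟨0,1,[274],[]⟩,⟨2,0,[558,558,568,556,566,566,562],[]⟩,⟨0,0,[335],[]⟩] [],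
  .fc [⟨1,0,[335],[]⟩,⟨0,1,[309],[]⟩,⟨2,0,[560,566,558,556,554,558,554,566],[]⟩,⟨0,0,[335],[]⟩] [],
  .fc [⟨1,0,[335],[]⟩,⟨0,1,[327],[]⟩,⟨2,0,[564,562,568,562,560,562,566,560],[]⟩,⟨0,0,[335],[]⟩] [],
  .df [4112,4104,4,16],
  .fc [⟨0,0,[3],[4112,4104]⟩] [],
  .fc [⟨1,0,[335],[]⟩,⟨0,1,[360],[]⟩,⟨2,0,[554,558,568,554,556,560,562,556,564],[]⟩,⟨0,0,[335],[]⟩] [],
  .df [4176,4184],
  .fc [] [],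
  .fc [⟨1,0,[362],[]⟩,⟨0,1,[1],[]⟩] [],
  .fc [⟨1,0,[362],[]⟩,⟨2,0,[584,598,590,588,586,598,598,586,584,598,592,586,586],[]⟩,⟨0,0,[362],[]⟩] [],
  .df [4104,4072,4,16],
  .fc [⟨0,0,[3],[4104,4072]⟩] [],
  .df [4568,5192],
  .fc [⟨1,0,[305],[]⟩,⟨0,1,[365],[]⟩,⟨2,0,[584,594,592,584,586,588],[]⟩,⟨0,0,[362],[]⟩] []]

theorem c1_1 : chk opsK elT1.get fsT1.get 653 367 c1_1_i 574 308 = true := by decide +kernel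

/-- steps of the enumeration -/
noncomputable def c1_2_i : List Item :=
 [.fc [⟨1,0,[366],[]⟩,⟨2,0,[590,594,594,596,592,598,590],[]⟩,⟨0,0,[362],[]⟩] [],
  .fc [⟨2,0,[734,728,728,728,734,728,734],[]⟩] [],
  .fc [⟨2,0,[734,728,734,734,728,728,734,728],[]⟩] [],
  .fc [⟨2,0,[728,728,728,734,734,734,728,728,728],[]⟩] [],
  .fc [⟨2,0,[734,728,728,734,728,728,734],[]⟩] [],
  .fc [⟨2,0,[734,734,734,728,728,728,728,734],[]⟩] [],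
  .fc [⟨2,0,[728,728,728,734,728,734,734,734,734],[]⟩] [],
  .fc [⟨2,0,[728,734,734,734,728,728,728],[]⟩] [],
  .fc [⟨2,0,[734,728,734,734,734,734,728,728],[]⟩] [],
  .df [4712,4736],
  .fc [⟨1,0,[320],[]⟩,⟨0,1,[322],[]⟩,⟨2,0,[586,592,592,598,588,592],[]⟩,⟨0,0,[362],[]⟩] [],
  .df [5304,8],
  .fc [⟨1,0,[376],[]⟩,⟨0,2,[1],[]⟩] [],
  .df [4712,5072],
  .fc [⟨1,0,[320],[]⟩,⟨0,1,[353],[]⟩,⟨2,0,[596,588,598,592,592,588],[]⟩,⟨0,0,[362],[]⟩] [],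
  .df [5336,8],
  .fc [⟨1,0,[378],[]⟩,⟨0,2,[1],[]⟩] [],
  .fc [⟨1,0,[362],[]⟩,⟨0,1,[0],[]⟩,⟨2,0,[590,590,590,590,590],[]⟩,⟨0,0,[362],[]⟩] [],
  .fc [⟨1,0,[362],[]⟩,⟨0,1,[322],[]⟩,⟨2,0,[584,584,586,590,590,586,596,598],[]⟩,⟨0,0,[362],[]⟩] [],
  .df [4120,4072,4,16],
  .fc [⟨0,0,[3],[4120,4072]⟩] [],
  .df [5304,5376],
  .fc [⟨1,0,[376],[]⟩,⟨0,2,[382],[]⟩,⟨2,0,[632,628,634,626,638,624],[]⟩,⟨0,0,[376],[]⟩] [],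
  .df [4184,4144],
  .fc [] [],
  .fc [⟨1,0,[384],[]⟩,⟨0,1,[1],[]⟩] [],
  .fc [⟨1,0,[384],[]⟩,⟨2,0,[598,590,588,586,598,584,598,592,586,586,592,594,590],[]⟩,⟨0,0,[384],[]⟩] [],
  .fc [⟨1,0,[384],[]⟩,⟨2,0,[584,586,590,596,590,588,598,584,586,586,588,592,596,594,592,598,598],[]⟩,⟨0,0,[384],[]⟩] [],
  .fc [⟨2,0,[772,774,772,774,774,772,774],[]⟩] [],
  .fc [⟨2,0,[772,774,774,774,772,772,774,772],[]⟩] [],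
  .fc [⟨2,0,[774,772,774,772,772,774,774,772,772],[]⟩] [],
  .fc [⟨2,0,[772,774,774,774,774,772,772],[]⟩] [],
  .fc [⟨2,0,[772,772,774,774,772,774,772,772],[]⟩] [],
  .fc [⟨2,0,[774,774,774,772,772,774,772,774,774],[]⟩] [],
  .fc [⟨2,0,[774,772,774,772,772,772,772],[]⟩] [],
  .fc [⟨2,0,[772,772,772,772,772,774,774,772],[]⟩] [],
  .df [4712,5000],
  .fc [⟨1,0,[320],[]⟩,⟨0,1,[348],[]⟩,⟨2,0,[584,586,594,598,594,590,592,590],[]⟩,⟨0,0,[384],[]⟩] [],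
  .df [5512,8],
  .fc [⟨1,0,[396],[]⟩,⟨0,2,[1],[]⟩] [],
  .df [5024,4800],
  .fc [⟨1,0,[349],[]⟩,⟨0,1,[327],[]⟩,⟨2,0,[586,586,594,598,584,594,596,592,596],[]⟩,⟨0,0,[384],[]⟩] [],
  .df [5544,8],
  .fc [⟨1,0,[398],[]⟩,⟨0,2,[1],[]⟩] [],
  .fc [⟨1,0,[362],[]⟩,⟨0,1,[286],[]⟩,⟨2,0,[584,584,598,596,592,594,584,586],[]⟩,⟨0,0,[384],[]⟩] [],
  .df [5568,8],
  .fc [⟨1,0,[400],[]⟩,⟨0,2,[1],[]⟩] [],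
  .fc [⟨1,0,[384],[]⟩,⟨0,1,[0],[]⟩,⟨2,0,[590,590,590,590,590],[]⟩,⟨0,0,[384],[]⟩] [],
  .fc [⟨1,0,[384],[]⟩,⟨0,1,[286],[]⟩,⟨2,0,[592,592,586,596,594,590,598,592],[]⟩,⟨0,0,[384],[]⟩] [],
  .fc [⟨1,0,[384],[]⟩,⟨0,1,[274],[]⟩,⟨2,0,[586,592,584,598,598,588,596,590],[]⟩,⟨0,0,[384],[]⟩] [],
  .df [4096,4096,4,16],
  .fc [⟨0,0,[3],[4096,4096]⟩] [],
  .fc [⟨1,0,[384],[]⟩,⟨0,1,[405],[]⟩,⟨2,0,[584,592,584,584,588,592,586,586],[]⟩,⟨0,0,[384],[]⟩] [],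
  .df [5304,4800],
  .fc [⟨1,0,[376],[]⟩,⟨0,2,[327],[]⟩,⟨2,0,[624,632,628,636,630,636,638,638],[]⟩,⟨0,0,[396],[]⟩] [],
  .df [5640,8],
  .fc [⟨1,0,[407],[]⟩,⟨0,2,[1],[]⟩] [],
  .df [5512,5000],
  .fc [⟨1,0,[396],[]⟩,⟨0,2,[348],[]⟩,⟨2,0,[624,636,628,632,632,632,636,638],[]⟩,⟨0,0,[396],[]⟩] [],
  .df [5672,8],
  .fc [⟨1,0,[409],[]⟩,⟨0,2,[1],[]⟩] [],
  .df [4072,4072,4,16],
  .fc [⟨0,0,[3],[4072,4072]⟩] [],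
  .df [5512,5696],
  .fc [⟨1,0,[396],[]⟩,⟨0,2,[411],[]⟩,⟨2,0,[626,634,638,634,632,636,630,630],[]⟩,⟨0,0,[396],[]⟩] [],
  .df [4096,4080,4,16],
  .fc [⟨0,0,[3],[4096,4080]⟩] [],
  .df [5512,5728],
  .fc [⟨1,0,[396],[]⟩,⟨0,2,[413],[]⟩,⟨2,0,[626,636,626,628,632,630,638,630],[]⟩,⟨0,0,[396],[]⟩] [],
  .df [4088,4072,4072,4,16],
  .fc [⟨0,0,[3],[4088,4072,4072]⟩] [],
  .df [5512,5760],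
  .fc [⟨1,0,[396],[]⟩,⟨0,2,[415],[]⟩,⟨2,0,[626,632,638,628,636,636,630,634],[]⟩,⟨0,0,[396],[]⟩] [],
  .df [4120,4104,4072,4,16],
  .fc [⟨0,0,[3],[4120,4104,4072]⟩] [],
  .df [5512,5792],
  .fc [⟨1,0,[396],[]⟩,⟨0,2,[417],[]⟩,⟨2,0,[624,628,624,628,632,626,630,630],[]⟩,⟨0,0,[396],[]⟩] [],
  .df [5640,4800],
  .fc [⟨1,0,[407],[]⟩,⟨0,2,[327],[]⟩,⟨2,0,[744,750,742,738,742,748,738,744],[]⟩,⟨0,0,[407],[]⟩] [],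
  .df [4096,4088,4,16],
  .fc [⟨0,0,[3],[4096,4088]⟩] [],
  .df [5640,5840]]

theorem c1_2 : chk opsK elT1.get fsT1.get 733 421 c1_2_i 653 367 = true := by decide +kernel

/-- steps of the enumeration -/
noncomputable def c1_3_i : List Item :=
 [.fc [⟨1,0,[407],[]⟩,⟨0,2,[420],[]⟩,⟨2,0,[740,744,750,736,748,736,746],[]⟩,⟨0,0,[407],[]⟩] [],
  .df [4088,4128,4072,4,16],
  .fc [⟨0,0,[3],[4088,4128,4072]⟩] [],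
  .df [5640,5872],
  .fc [⟨1,0,[407],[]⟩,⟨0,2,[422],[]⟩,⟨2,0,[746,740,738,736,750,744,740],[]⟩,⟨0,0,[407],[]⟩] [],
  .df [5672,4600],
  .fc [⟨1,0,[409],[]⟩,⟨0,2,[309],[]⟩,⟨2,0,[782,790,782,786,786,786,778],[]⟩,⟨0,0,[419],[]⟩] [],
  .df [5912,8],
  .fc [⟨1,0,[424],[]⟩,⟨0,2,[1],[]⟩] [],
  .df [4104,4096,4088,4088,4,16],
  .fc [⟨0,0,[3],[4104,4096,4088,4088]⟩] [],
  .df [5832,5936],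
  .fc [⟨1,0,[419],[]⟩,⟨0,2,[426],[]⟩,⟨2,0,[788,788,784,780,778,782],[]⟩,⟨0,0,[425],[]⟩] [],
  .fc [] [],
  .fc [⟨1,0,[428],[]⟩,⟨0,1,[1],[]⟩] [],
  .fc [⟨1,0,[428],[]⟩,⟨2,0,[598,584,588,596,586,586,588,588,596,584,588,592,588,592],[]⟩,⟨0,0,[428],[]⟩] [],
  .fc [⟨1,0,[428],[]⟩,⟨2,0,[596,594,592,594,592,584,594,596,588,588,594,596,592,588,584],[]⟩,⟨0,0,[428],[]⟩] [],
  .df [4080,4072,4,16],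
  .fc [⟨0,0,[3],[4080,4072]⟩] [],
  .df [4568,5984],
  .fc [⟨1,0,[305],[]⟩,⟨0,1,[432],[]⟩,⟨2,0,[592,584,588,594,596,598,588,596],[]⟩,⟨0,0,[428],[]⟩] [],
  .fc [⟨1,0,[433],[]⟩,⟨2,0,[598,590,592,590,586,588,584],[]⟩,⟨0,0,[428],[]⟩] [],
  .fc [⟨2,0,[860,868,868,868,862,860,860],[]⟩] [],
  .fc [⟨2,0,[868,868,862,868,860,860,862,862],[]⟩] [],
  .fc [⟨2,0,[860,868,862,860,862,868,862,862,868],[]⟩] [],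
  .fc [⟨2,0,[868,860,868,862,860,862,862],[]⟩] [],
  .fc [⟨2,0,[868,860,860,862,860,860,862,860],[]⟩] [],
  .fc [⟨2,0,[868,862,860,868,860,860,868,868,862],[]⟩] [],
  .fc [⟨2,0,[860,860,860,868,862,860,860],[]⟩] [],
  .fc [⟨2,0,[860,868,862,860,860,868,862,862],[]⟩] [],
  .df [4712,4296],
  .fc [⟨1,0,[320],[]⟩,⟨0,1,[274],[]⟩,⟨2,0,[592,590,592,596,598,590,596,584],[]⟩,⟨0,0,[428],[]⟩] [],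
  .df [6096,8],
  .fc [⟨1,0,[443],[]⟩,⟨0,2,[1],[]⟩] [],
  .df [4712,4848],
  .fc [⟨1,0,[320],[]⟩,⟨0,1,[331],[]⟩,⟨2,0,[584,584,592,596,592,584,594,592],[]⟩,⟨0,0,[428],[]⟩] [],
  .df [6128,8],
  .fc [⟨1,0,[445],[]⟩,⟨0,2,[1],[]⟩] [],
  .df [4760,4296],
  .fc [⟨1,0,[323],[]⟩,⟨0,1,[274],[]⟩,⟨2,0,[586,584,584,598,586,584,596,594],[]⟩,⟨0,0,[428],[]⟩] [],
  .df [6160,8],
  .fc [⟨1,0,[447],[]⟩,⟨0,2,[1],[]⟩] [],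
  .df [5024,4296],
  .fc [⟨1,0,[349],[]⟩,⟨0,1,[274],[]⟩,⟨2,0,[594,592,586,588,594,584,598,598],[]⟩,⟨0,0,[428],[]⟩] [],
  .df [6192,8],
  .fc [⟨1,0,[449],[]⟩,⟨0,2,[1],[]⟩] [],
  .fc [⟨1,0,[362],[]⟩,⟨0,1,[327],[]⟩,⟨2,0,[584,584,594,598,584,596,596,596,590],[]⟩,⟨0,0,[428],[]⟩] [],
  .df [6216,8],
  .fc [⟨1,0,[451],[]⟩,⟨0,2,[1],[]⟩] [],
  .fc [⟨1,0,[362],[]⟩,⟨0,1,[348],[]⟩,⟨2,0,[596,596,588,594,586,590,588],[]⟩,⟨0,0,[428],[]⟩] [],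
  .df [6240,8],
  .fc [⟨1,0,[453],[]⟩,⟨0,2,[1],[]⟩] [],
  .fc [⟨1,0,[384],[]⟩,⟨0,1,[309],[]⟩,⟨2,0,[596,596,588,594,588,598,596],[]⟩,⟨0,0,[428],[]⟩] [],
  .df [6264,8],
  .fc [⟨1,0,[455],[]⟩,⟨0,2,[1],[]⟩] [],
  .fc [⟨1,0,[384],[]⟩,⟨0,1,[327],[]⟩,⟨2,0,[588,596,584,598,594,596,592,592],[]⟩,⟨0,0,[428],[]⟩] [],
  .df [6288,8],
  .fc [⟨1,0,[457],[]⟩,⟨0,2,[1],[]⟩] [],
  .df [4112,4,16],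
  .fc [⟨0,0,[3],[4112]⟩] [],
  .fc [⟨1,0,[384],[]⟩,⟨0,1,[459],[]⟩,⟨2,0,[584,586,586,588,592,596,592,598,596],[]⟩,⟨0,0,[428],[]⟩] [],
  .df [6320,8],
  .fc [⟨1,0,[460],[]⟩,⟨0,2,[1],[]⟩] [],
  .fc [⟨1,0,[428],[]⟩,⟨0,1,[0],[]⟩,⟨2,0,[590,590,590,590,590],[]⟩,⟨0,0,[428],[]⟩] [],
  .fc [⟨1,0,[428],[]⟩,⟨0,1,[286],[]⟩,⟨2,0,[586,592,592,592,586,594,596,598],[]⟩,⟨0,0,[428],[]⟩] [],
  .fc [⟨1,0,[428],[]⟩,⟨0,1,[274],[]⟩,⟨2,0,[590,598,592,598,584,592,594,588],[]⟩,⟨0,0,[428],[]⟩] [],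
  .fc [⟨1,0,[428],[]⟩,⟨0,1,[327],[]⟩,⟨2,0,[586,592,594,586,588,596,598,592],[]⟩,⟨0,0,[428],[]⟩] [],
  .df [6368,8],
  .fc [⟨1,0,[465],[]⟩,⟨0,2,[1],[]⟩] [],
  .df [4072,4120,4088,4,16],
  .fc [⟨0,0,[3],[4072,4120,4088]⟩] [],
  .fc [⟨1,0,[428],[]⟩,⟨0,1,[467],[]⟩,⟨2,0,[592,584,586,594,590,590,596,590],[]⟩,⟨0,0,[428],[]⟩] [],
  .df [4128,4072,4,16],
  .fc [⟨0,0,[3],[4128,4072]⟩] [],
  .df [5512,6408],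
  .fc [⟨1,0,[396],[]⟩,⟨0,2,[469],[]⟩,⟨2,0,[626,638,632,638,628,634,632],[]⟩,⟨0,0,[443],[]⟩] [],
  .df [6432,8],
  .fc [⟨1,0,[470],[]⟩,⟨0,2,[1],[]⟩] [],
  .df [4104,4088,4,16],
  .fc [⟨0,0,[3],[4104,4088]⟩] [],
  .df [5512,6456],
  .fc [⟨1,0,[396],[]⟩,⟨0,2,[472],[]⟩,⟨2,0,[630,636,628,628,636,638,634],[]⟩,⟨0,0,[443],[]⟩] [],
  .df [6480,8],
  .fc [⟨1,0,[473],[]⟩,⟨0,2,[1],[]⟩] [],
  .df [4080,4104,4,16]]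

theorem c1_3 : chk opsK elT1.get fsT1.get 814 475 c1_3_i 733 421 = true := by decide +kernel

/-- steps of the enumeration -/
noncomputable def c1_4_i : List Item :=
 [.fc [⟨0,0,[3],[4080,4104]⟩] [],
  .df [5512,6504],
  .fc [⟨1,0,[396],[]⟩,⟨0,2,[475],[]⟩,⟨2,0,[626,634,632,632,626,630,638],[]⟩,⟨0,0,[443],[]⟩] [],
  .df [6528,8],
  .fc [⟨1,0,[476],[]⟩,⟨0,2,[1],[]⟩] [],
  .df [4088,4072,4,16],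
  .fc [⟨0,0,[3],[4088,4072]⟩] [],
  .df [6096,6552],
  .fc [⟨1,0,[443],[]⟩,⟨0,2,[478],[]⟩,⟨2,0,[632,634,630,628,636,638],[]⟩,⟨0,0,[447],[]⟩] [],
  .df [6096,5192],
  .fc [⟨1,0,[443],[]⟩,⟨0,2,[365],[]⟩,⟨2,0,[630,634,636,636,636,636,634],[]⟩,⟨0,0,[443],[]⟩] [],
  .df [4072,4072,4072,4,16],
  .fc [⟨0,0,[3],[4072,4072,4072]⟩] [],
  .df [6096,6600],
  .fc [⟨1,0,[443],[]⟩,⟨0,2,[481],[]⟩,⟨2,0,[634,628,626,632,628,626,636],[]⟩,⟨0,0,[443],[]⟩] [],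
  .df [4168,4136],
  .fc [] [],
  .fc [⟨1,0,[483],[]⟩,⟨0,2,[1],[]⟩] [],
  .fc [⟨1,0,[483],[]⟩,⟨2,0,[628,638,624,634,636,630,634,624,630,638,638,636,626],[]⟩,⟨0,0,[483],[]⟩] [],
  .df [4792,4736],
  .fc [⟨1,0,[326],[]⟩,⟨0,2,[322],[]⟩,⟨2,0,[628,638,632,634,638,638,628],[]⟩,⟨0,0,[483],[]⟩] [],
  .fc [⟨1,0,[486],[]⟩,⟨2,0,[624,626,626,624,638,638,626,630],[]⟩,⟨0,0,[483],[]⟩] [],
  .fc [⟨2,0,[970,970,970,974,974,970,970],[]⟩] [],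
  .fc [⟨2,0,[970,974,970,974,970,970,974,974],[]⟩] [],
  .fc [⟨2,0,[974,970,970,974,970,970,970,970,970],[]⟩] [],
  .fc [⟨2,0,[970,974,970,970,970,974,974],[]⟩] [],
  .fc [⟨2,0,[974,974,970,974,970,974,970,974],[]⟩] [],
  .fc [⟨2,0,[974,970,970,974,970,974,974,974,970],[]⟩] [],
  .fc [⟨2,0,[974,970,974,970,974,974,974],[]⟩] [],
  .fc [⟨2,0,[970,974,974,974,970,970,970,974],[]⟩] [],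
  .df [5048,4800],
  .fc [⟨1,0,[351],[]⟩,⟨0,2,[327],[]⟩,⟨2,0,[636,634,632,630,636,630,624],[]⟩,⟨0,0,[483],[]⟩] [],
  .df [6752,8],
  .fc [⟨1,0,[496],[]⟩,⟨0,2,[1],[]⟩] [],
  .df [5088,5000],
  .fc [⟨1,0,[354],[]⟩,⟨0,2,[348],[]⟩,⟨2,0,[624,626,636,626,628,636,632],[]⟩,⟨0,0,[483],[]⟩] [],
  .df [6784,8],
  .fc [⟨1,0,[498],[]⟩,⟨0,2,[1],[]⟩] [],
  .df [5512,4296],
  .fc [⟨1,0,[396],[]⟩,⟨0,2,[274],[]⟩,⟨2,0,[624,626,628,638,634,628,624],[]⟩,⟨0,0,[483],[]⟩] [],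
  .df [6816,8],
  .fc [⟨1,0,[500],[]⟩,⟨0,2,[1],[]⟩] [],
  .df [4096,4120,4,16],
  .fc [⟨0,0,[3],[4096,4120]⟩] [],
  .df [5512,6840],
  .fc [⟨1,0,[396],[]⟩,⟨0,2,[502],[]⟩,⟨2,0,[632,632,634,632,630,630,628],[]⟩,⟨0,0,[483],[]⟩] [],
  .df [6864,8],
  .fc [⟨1,0,[503],[]⟩,⟨0,2,[1],[]⟩] [],
  .df [4112,4072,4072,4,16],
  .fc [⟨0,0,[3],[4112,4072,4072]⟩] [],
  .df [5512,6888],
  .fc [⟨1,0,[396],[]⟩,⟨0,2,[505],[]⟩,⟨2,0,[626,630,632,624,632,634,626],[]⟩,⟨0,0,[483],[]⟩] [],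
  .df [6912,8],
  .fc [⟨1,0,[506],[]⟩,⟨0,2,[1],[]⟩] [],
  .df [4096,4072,4,16],
  .fc [⟨0,0,[3],[4096,4072]⟩] [],
  .df [6096,6936],
  .fc [⟨1,0,[443],[]⟩,⟨0,2,[508],[]⟩,⟨2,0,[624,630,626,632,626,630,624],[]⟩,⟨0,0,[483],[]⟩] [],
  .df [6960,8],
  .fc [⟨1,0,[509],[]⟩,⟨0,2,[1],[]⟩] [],
  .df [4104,4120,4,16],
  .fc [⟨0,0,[3],[4104,4120]⟩] [],
  .df [6096,6984],
  .fc [⟨1,0,[443],[]⟩,⟨0,2,[511],[]⟩,⟨2,0,[630,624,630,624,628,626],[]⟩,⟨0,0,[483],[]⟩] [],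
  .df [7008,8],
  .fc [⟨1,0,[512],[]⟩,⟨0,2,[1],[]⟩] [],
  .fc [⟨1,0,[483],[]⟩,⟨0,2,[0],[]⟩,⟨2,0,[632,632,638,624,634,628,624],[]⟩,⟨0,0,[483],[]⟩] [],
  .fc [⟨1,0,[483],[]⟩,⟨0,2,[348],[]⟩,⟨2,0,[630,638,626,638,636,638],[]⟩,⟨0,0,[483],[]⟩] [],
  .df [4080,4080,4,16],
  .fc [⟨0,0,[3],[4080,4080]⟩] [],
  .fc [⟨1,0,[483],[]⟩,⟨0,2,[516],[]⟩,⟨2,0,[634,638,626,636,632,630,628],[]⟩,⟨0,0,[483],[]⟩] [],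
  .df [4128,4120,4,16],
  .fc [⟨0,0,[3],[4128,4120]⟩] [],
  .fc [⟨1,0,[483],[]⟩,⟨0,2,[518],[]⟩,⟨2,0,[634,634,636,626,626,628],[]⟩,⟨0,0,[483],[]⟩] [],
  .df [4104,4112,4088,4,16],
  .fc [⟨0,0,[3],[4104,4112,4088]⟩] [],
  .fc [⟨1,0,[483],[]⟩,⟨0,2,[520],[]⟩,⟨2,0,[624,624,638,630,628,626,634],[]⟩,⟨0,0,[483],[]⟩] [],
  .df [5544,4600],
  .fc [⟨1,0,[398],[]⟩,⟨0,2,[309],[]⟩,⟨2,0,[688,690,694,682,690,686,694],[]⟩,⟨0,0,[498],[]⟩] [],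
  .df [7128,8],
  .fc [⟨1,0,[522],[]⟩,⟨0,2,[1],[]⟩] [],
  .df [6192,4600],
  .fc [⟨1,0,[449],[]⟩,⟨0,2,[309],[]⟩,⟨2,0,[682,686,686,688,692,688,692,684],[]⟩,⟨0,0,[498],[]⟩] [],
  .df [7160,8],
  .fc [⟨1,0,[524],[]⟩,⟨0,2,[1],[]⟩] [],
  .df [6752,4600],
  .fc [⟨1,0,[496],[]⟩,⟨0,2,[309],[]⟩,⟨2,0,[682,688,682,688,692,688,690,690],[]⟩,⟨0,0,[498],[]⟩] [],
  .df [4088,4112,4,16],
  .fc [⟨0,0,[3],[4088,4112]⟩] [],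
  .df [6752,7200]]

theorem c1_4 : chk opsK elT1.get fsT1.get 903 528 c1_4_i 814 475 = true := by decide +kernel

/-- steps of the enumeration -/
noncomputable def c1_5_i : List Item :=
 [.fc [⟨1,0,[496],[]⟩,⟨0,2,[527],[]⟩,⟨2,0,[690,686,688,680,686,684,692],[]⟩,⟨0,0,[498],[]⟩] [],
  .df [4080,4120,4072,4,16],
  .fc [⟨0,0,[3],[4080,4120,4072]⟩] [],
  .df [6752,7232],
  .fc [⟨1,0,[496],[]⟩,⟨0,2,[529],[]⟩,⟨2,0,[692,682,688,684,690,694,690],[]⟩,⟨0,0,[496],[]⟩] [],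
  .df [6784,4800],
  .fc [⟨1,0,[498],[]⟩,⟨0,2,[327],[]⟩,⟨2,0,[690,682,692,692,680,682,682],[]⟩,⟨0,0,[498],[]⟩] [],
  .df [7272,8],
  .fc [⟨1,0,[531],[]⟩,⟨0,3,[1],[]⟩] [],
  .df [6784,6936],
  .fc [⟨1,0,[498],[]⟩,⟨0,2,[508],[]⟩,⟨2,0,[680,686,690,688,682,682,686,688],[]⟩,⟨0,0,[498],[]⟩] [],
  .df [4112,4072,4,16],
  .fc [⟨0,0,[3],[4112,4072]⟩] [],
  .df [6784,7312],
  .fc [⟨1,0,[498],[]⟩,⟨0,2,[534],[]⟩,⟨2,0,[682,686,686,690,692,682,690,684],[]⟩,⟨0,0,[498],[]⟩] [],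
  .df [4072,4080,4,16],
  .fc [⟨0,0,[3],[4072,4080]⟩] [],
  .df [6784,7344],
  .fc [⟨1,0,[498],[]⟩,⟨0,2,[536],[]⟩,⟨2,0,[680,686,690,692,688,692,690,682],[]⟩,⟨0,0,[498],[]⟩] [],
  .df [7368,8],
  .fc [⟨1,0,[537],[]⟩,⟨0,3,[1],[]⟩] [],
  .df [4080,4088,4,16],
  .fc [⟨0,0,[3],[4080,4088]⟩] [],
  .df [6784,7392],
  .fc [⟨1,0,[498],[]⟩,⟨0,2,[539],[]⟩,⟨2,0,[680,694,684,686,686,690,680,680,690],[]⟩,⟨0,0,[498],[]⟩] [],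
  .df [4104,4112,4,16],
  .fc [⟨0,0,[3],[4104,4112]⟩] [],
  .df [6784,7424],
  .fc [⟨1,0,[498],[]⟩,⟨0,2,[541],[]⟩,⟨2,0,[682,694,690,690,690,684,684],[]⟩,⟨0,0,[498],[]⟩] [],
  .df [4088,4128,4,16],
  .fc [⟨0,0,[3],[4088,4128]⟩] [],
  .df [6784,7456],
  .fc [⟨1,0,[498],[]⟩,⟨0,2,[543],[]⟩,⟨2,0,[694,690,694,690,686,688,682],[]⟩,⟨0,0,[498],[]⟩] [],
  .df [4096,4080,4072,4,16],
  .fc [⟨0,0,[3],[4096,4080,4072]⟩] [],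
  .df [6784,7488],
  .fc [⟨1,0,[498],[]⟩,⟨0,2,[545],[]⟩,⟨2,0,[684,680,688,682,692,682,682,684],[]⟩,⟨0,0,[498],[]⟩] [],
  .df [4112,4096,4,16],
  .fc [⟨0,0,[3],[4112,4096]⟩] [],
  .df [5672,7520],
  .fc [⟨1,0,[409],[]⟩,⟨0,2,[547],[]⟩,⟨2,0,[788,780,776,782,784,788],[]⟩,⟨0,0,[522],[]⟩] [],
  .df [7544,8],
  .fc [⟨1,0,[548],[]⟩,⟨0,2,[1],[]⟩] [],
  .df [4128,4112,4,16],
  .fc [⟨0,0,[3],[4128,4112]⟩] [],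
  .df [5672,7568],
  .fc [⟨1,0,[409],[]⟩,⟨0,2,[550],[]⟩,⟨2,0,[776,780,790,782,786,776],[]⟩,⟨0,0,[522],[]⟩] [],
  .df [7592,8],
  .fc [⟨1,0,[551],[]⟩,⟨0,2,[1],[]⟩] [],
  .df [4080,4088,4088,4,16],
  .fc [⟨0,0,[3],[4080,4088,4088]⟩] [],
  .df [5672,7616],
  .fc [⟨1,0,[409],[]⟩,⟨0,2,[553],[]⟩,⟨2,0,[788,788,790,788,784],[]⟩,⟨0,0,[506],[]⟩] [],
  .df [7640,8],
  .fc [⟨1,0,[554],[]⟩,⟨0,2,[1],[]⟩] [],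
  .df [4104,4128,4,16],
  .fc [⟨0,0,[3],[4104,4128]⟩] [],
  .df [5688,7664],
  .fc [⟨1,0,[410],[]⟩,⟨0,2,[556],[]⟩,⟨2,0,[778,790,788,786,790,790,790],[]⟩,⟨0,0,[554],[]⟩] [],
  .df [7688,8],
  .fc [⟨1,0,[557],[]⟩,⟨0,2,[1],[]⟩] [],
  .df [4080,4072,4072,4,16],
  .fc [⟨0,0,[3],[4080,4072,4072]⟩] [],
  .df [5720,7712],
  .fc [⟨1,0,[412],[]⟩,⟨0,2,[559],[]⟩,⟨2,0,[776,780,782,776,776,788,782,784],[]⟩,⟨0,0,[557],[]⟩] [],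
  .df [7736,8],
  .fc [⟨1,0,[560],[]⟩,⟨0,2,[1],[]⟩] [],
  .df [6816,4600],
  .fc [⟨1,0,[500],[]⟩,⟨0,2,[309],[]⟩,⟨2,0,[778,790,778,784,790,778,782],[]⟩,⟨0,0,[551],[]⟩] [],
  .df [4120,4104,4,16],
  .fc [⟨0,0,[3],[4120,4104]⟩] [],
  .df [6816,7776],
  .fc [⟨1,0,[500],[]⟩,⟨0,2,[563],[]⟩,⟨2,0,[784,778,782,782,780,786,786],[]⟩,⟨0,0,[548],[]⟩] [],
  .df [6816,6888],
  .fc [⟨1,0,[500],[]⟩,⟨0,2,[505],[]⟩,⟨2,0,[776,776,782,776,788,780,788,778],[]⟩,⟨0,0,[557],[]⟩] [],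
  .df [4080,4080,4072,4,16],
  .fc [⟨0,0,[3],[4080,4080,4072]⟩] [],
  .df [6816,7824],
  .fc [⟨1,0,[500],[]⟩,⟨0,2,[566],[]⟩,⟨2,0,[784,778,784,780,776,790,790],[]⟩,⟨0,0,[551],[]⟩] [],
  .df [4080,4120,4072,4072,4,16],
  .fc [⟨0,0,[3],[4080,4120,4072,4072]⟩] [],
  .df [6816,7856],
  .fc [⟨1,0,[500],[]⟩,⟨0,2,[568],[]⟩,⟨2,0,[790,778,782,784],[]⟩,⟨0,0,[500],[]⟩] [],
  .df [4184,4136],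
  .fc [] [],
  .fc [⟨1,0,[570],[]⟩,⟨0,2,[1],[]⟩] [],
  .fc [⟨1,0,[570],[]⟩,⟨2,0,[624,624,638,636,626,638,638,626,634,632,634,630,630,634,630,624],[]⟩,⟨0,0,[570],[]⟩] []]

theorem c1_5 : chk opsK elT1.get fsT1.get 989 573 c1_5_i 903 528 = true := by decide +kernel

end CfsgLib.MonK.Dce
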