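import Mathlib
import Cfsg.Agent.Lib.MonK.Tab
import Cfsg.Agent.Lib.Mon.DceT1

/-!
Part 1 of the certificate of the double coset enumeration number 1 (generated by `tools/mon/genchunks.py`).
-/

set_option autoImplicit false
set_option maxRecDepth 100000
set_option Elab.async false

namespace CfsgLib.MonK.Dce

open CfsgLib.DCX CfsgLib.Mon.Dce

/-- steps of the enumeration -/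
noncomputable def c1_6_i : List Item :=
 [.df [4792,4296],
  .fc [⟨1,0,[326],[]⟩,⟨0,2,[274],[]⟩,⟨2,0,[624,630,630,630,634,636,624],[]⟩,⟨0,0,[570],[]⟩] [],
  .fc [⟨1,0,[573],[]⟩,⟨2,0,[626,628,624,634,634,628,634],[]⟩,⟨0,0,[570],[]⟩] [],
  .fc [⟨2,0,[1148,1144,1148,1144,1148,1144,1148],[]⟩] [],
  .fc [⟨2,0,[1144,1144,1148,1144,1144,1144,1144,1148],[]⟩] [],
  .fc [⟨2,0,[1144,1144,1148,1148,1148,1144,1144,1148,1144],[]⟩] [],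
  .fc [⟨2,0,[1144,1148,1144,1148,1148,1148,1148],[]⟩] [],
  .fc [⟨2,0,[1148,1144,1144,1148,1148,1144,1144,1144],[]⟩] [],
  .fc [⟨2,0,[1144,1144,1144,1148,1148,1144,1148,1148,1148],[]⟩] [],
  .fc [⟨2,0,[1144,1148,1144,1144,1148,1148,1144],[]⟩] [],
  .fc [⟨2,0,[1148,1144,1148,1148,1144,1148,1148,1148],[]⟩] [],
  .df [4128,4080,4,16],
  .fc [⟨0,0,[3],[4128,4080]⟩] [],
  .df [5048,8000],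
  .fc [⟨1,0,[351],[]⟩,⟨0,2,[583],[]⟩,⟨2,0,[630,630,632,636,630,628,632],[]⟩,⟨0,0,[570],[]⟩] [],
  .df [8024,8],
  .fc [⟨1,0,[584],[]⟩,⟨0,2,[1],[]⟩] [],
  .df [5336,4736],
  .fc [⟨1,0,[378],[]⟩,⟨0,2,[322],[]⟩,⟨2,0,[632,624,636,636,624,626],[]⟩,⟨0,0,[570],[]⟩] [],
  .df [8056,8],
  .fc [⟨1,0,[586],[]⟩,⟨0,2,[1],[]⟩] [],
  .df [5336,5840],
  .fc [⟨1,0,[378],[]⟩,⟨0,2,[420],[]⟩,⟨2,0,[624,624,626,632,636,636,636,626],[]⟩,⟨0,0,[570],[]⟩] [],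
  .df [8088,8],
  .fc [⟨1,0,[588],[]⟩,⟨0,2,[1],[]⟩] [],
  .df [5512,5072],
  .fc [⟨1,0,[396],[]⟩,⟨0,2,[353],[]⟩,⟨2,0,[638,636,638,638,624,628],[]⟩,⟨0,0,[570],[]⟩] [],
  .df [8120,8],
  .fc [⟨1,0,[590],[]⟩,⟨0,2,[1],[]⟩] [],
  .df [5512,5376],
  .fc [⟨1,0,[396],[]⟩,⟨0,2,[382],[]⟩,⟨2,0,[632,636,628,634,638,624,634,628],[]⟩,⟨0,0,[570],[]⟩] [],
  .df [8152,8],
  .fc [⟨1,0,[592],[]⟩,⟨0,2,[1],[]⟩] [],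
  .df [4072,4104,4,16],
  .fc [⟨0,0,[3],[4072,4104]⟩] [],
  .df [5512,8176],
  .fc [⟨1,0,[396],[]⟩,⟨0,2,[594],[]⟩,⟨2,0,[624,624,628,626,638,632,626,624],[]⟩,⟨0,0,[570],[]⟩] [],
  .df [8200,8],
  .fc [⟨1,0,[595],[]⟩,⟨0,2,[1],[]⟩] [],
  .df [5512,6984],
  .fc [⟨1,0,[396],[]⟩,⟨0,2,[511],[]⟩,⟨2,0,[632,626,628,636,624,628],[]⟩,⟨0,0,[570],[]⟩] [],
  .df [8232,8],
  .fc [⟨1,0,[597],[]⟩,⟨0,2,[1],[]⟩] [],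
  .df [4104,4120,4080,4,16],
  .fc [⟨0,0,[3],[4104,4120,4080]⟩] [],
  .df [5512,8256],
  .fc [⟨1,0,[396],[]⟩,⟨0,2,[599],[]⟩,⟨2,0,[636,638,638,630,630,632,638],[]⟩,⟨0,0,[570],[]⟩] [],
  .df [8280,8],
  .fc [⟨1,0,[600],[]⟩,⟨0,2,[1],[]⟩] [],
  .df [6096,4800],
  .fc [⟨1,0,[443],[]⟩,⟨0,2,[327],[]⟩,⟨2,0,[632,632,624,624],[]⟩,⟨0,0,[570],[]⟩] [],
  .df [8312,8],
  .fc [⟨1,0,[602],[]⟩,⟨0,2,[1],[]⟩] [],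
  .df [6096,4544],
  .fc [⟨1,0,[443],[]⟩,⟨0,2,[304],[]⟩,⟨2,0,[636,628,634,626,636,630,626],[]⟩,⟨0,0,[570],[]⟩] [],
  .df [8344,8],
  .fc [⟨1,0,[604],[]⟩,⟨0,2,[1],[]⟩] [],
  .df [6096,8000],
  .fc [⟨1,0,[443],[]⟩,⟨0,2,[583],[]⟩,⟨2,0,[634,632,636,626,636,628,634],[]⟩,⟨0,0,[570],[]⟩] [],
  .df [8376,8],
  .fc [⟨1,0,[606],[]⟩,⟨0,2,[1],[]⟩] [],
  .df [6096,7392],
  .fc [⟨1,0,[443],[]⟩,⟨0,2,[539],[]⟩,⟨2,0,[624,628,638,638,634,636,638],[]⟩,⟨0,0,[570],[]⟩] [],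
  .df [8408,8],
  .fc [⟨1,0,[608],[]⟩,⟨0,2,[1],[]⟩] [],
  .fc [⟨1,0,[483],[]⟩,⟨0,2,[327],[]⟩,⟨2,0,[628,630,632,634,626,638,638],[]⟩,⟨0,0,[570],[]⟩] [],
  .df [8432,8],
  .fc [⟨1,0,[610],[]⟩,⟨0,3,[1],[]⟩] [],
  .fc [⟨1,0,[483],[]⟩,⟨0,2,[539],[]⟩,⟨2,0,[638,634,624,626,628,630,636],[]⟩,⟨0,0,[570],[]⟩] [],
  .df [8448,8],
  .fc [⟨1,0,[612],[]⟩,⟨0,3,[1],[]⟩] [],
  .fc [⟨1,0,[570],[]⟩,⟨0,2,[0],[]⟩,⟨2,0,[628,628,636,626,638,638],[]⟩,⟨0,0,[570],[]⟩] [],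
  .fc [⟨1,0,[570],[]⟩,⟨0,2,[327],[]⟩,⟨2,0,[626,628,634,632,638,632],[]⟩,⟨0,0,[570],[]⟩] [],
  .fc [⟨1,0,[570],[]⟩,⟨0,2,[413],[]⟩,⟨2,0,[626,632,634,634,626,634,630,636],[]⟩,⟨0,0,[570],[]⟩] [],
  .df [4088,4088,4,16],
  .fc [⟨0,0,[3],[4088,4088]⟩] [],
  .fc [⟨1,0,[570],[]⟩,⟨0,2,[617],[]⟩,⟨2,0,[624,624,626,624,634,624,638,632],[]⟩,⟨0,0,[570],[]⟩] [],
  .df [4120,4096,4,16],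
  .fc [⟨0,0,[3],[4120,4096]⟩] [],
  .fc [⟨1,0,[570],[]⟩,⟨0,2,[619],[]⟩,⟨2,0,[624,638,624,638,636,636,628],[]⟩,⟨0,0,[570],[]⟩] [],
  .df [4096,4096,4080,4,16],
  .fc [⟨0,0,[3],[4096,4096,4080]⟩] [],
  .fc [⟨1,0,[570],[]⟩,⟨0,2,[621],[]⟩,⟨2,0,[638,638,636,624,626,626,624],[]⟩,⟨0,0,[570],[]⟩] [],
  .df [4072,4104,4088,4072,4,16],
  .fc [⟨0,0,[3],[4072,4104,4088,4072]⟩] [],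
  .fc [⟨1,0,[570],[]⟩,⟨0,2,[623],[]⟩,⟨2,0,[626,636,630,636,638,632,626],[]⟩,⟨0,0,[570],[]⟩] [],
  .df [4112,4080,4,16],
  .fc [⟨0,0,[3],[4112,4080]⟩] [],
  .df [6784,8592],
  .fc [⟨1,0,[498],[]⟩,⟨0,2,[625],[]⟩,⟨2,0,[688,680,684,682,684,682],[]⟩,⟨0,0,[584],[]⟩] [],
  .df [8616,8]]

theorem c1_6 : chk opsK elT1.get fsT1.get 1079 627 c1_6_i 989 573 = true := by decide +kernel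

/-- steps of the enumeration -/
noncomputable def c1_7_i : List Item :=
 [.fc [⟨1,0,[626],[]⟩,⟨0,3,[1],[]⟩] [],
  .df [5640,6552],
  .fc [⟨1,0,[407],[]⟩,⟨0,2,[478],[]⟩,⟨2,0,[736,738,748,740,742,748,742],[]⟩,⟨0,0,[586],[]⟩] [],
  .df [8648,8],
  .fc [⟨1,0,[628],[]⟩,⟨0,2,[1],[]⟩] [],
  .df [4112,4120,4088,4072,4,16],
  .fc [⟨0,0,[3],[4112,4120,4088,4072]⟩] [],
  .df [5832,8672],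
  .fc [⟨1,0,[419],[]⟩,⟨0,2,[630],[]⟩,⟨2,0,[784,784,782,782],[]⟩,⟨0,0,[600],[]⟩] [],
  .df [8696,8],
  .fc [⟨1,0,[631],[]⟩,⟨0,2,[1],[]⟩] [],
  .df [4104,4104,4072,4,16],
  .fc [⟨0,0,[3],[4104,4104,4072]⟩] [],
  .df [6816,8720],
  .fc [⟨1,0,[500],[]⟩,⟨0,2,[633],[]⟩,⟨2,0,[786,790,786,784,790],[]⟩,⟨0,0,[590],[]⟩] [],
  .df [8744,8],
  .fc [⟨1,0,[634],[]⟩,⟨0,3,[1],[]⟩] [],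
  .df [4128,4128,4,16],
  .fc [⟨0,0,[3],[4128,4128]⟩] [],
  .df [8120,8768],
  .fc [⟨1,0,[590],[]⟩,⟨0,2,[636],[]⟩,⟨2,0,[782,778,780,776,784,776],[]⟩,⟨0,0,[590],[]⟩] [],
  .df [4176,4144],
  .fc [] [],
  .fc [⟨1,0,[638],[]⟩,⟨0,2,[1],[]⟩] [],
  .fc [⟨1,0,[638],[]⟩,⟨2,0,[630,634,624,638,628,630,638,632,624,628,638,628,638,628,634],[]⟩,⟨0,0,[638],[]⟩] [],
  .df [4816,4800],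
  .fc [⟨1,0,[328],[]⟩,⟨0,2,[327],[]⟩,⟨2,0,[624,630,628,632,632,632,628,624],[]⟩,⟨0,0,[638],[]⟩] [],
  .df [8832,8],
  .fc [⟨1,0,[641],[]⟩,⟨0,2,[1],[]⟩] [],
  .df [4888,4296],
  .fc [⟨1,0,[334],[]⟩,⟨0,2,[274],[]⟩,⟨2,0,[628,624,630,628,624,636,634],[]⟩,⟨0,0,[638],[]⟩] [],
  .fc [⟨1,0,[643],[]⟩,⟨2,0,[628,628,638,638,632,634,634],[]⟩,⟨0,0,[638],[]⟩] [],
  .fc [⟨2,0,[1288,1280,1280,1280,1288,1280,1288],[]⟩] [],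
  .fc [⟨2,0,[1280,1280,1288,1288,1280,1280,1288,1280],[]⟩] [],
  .fc [⟨2,0,[1280,1288,1288,1288,1280,1288,1280,1288,1280],[]⟩] [],
  .fc [⟨2,0,[1280,1280,1280,1288,1288,1280,1288],[]⟩] [],
  .fc [⟨2,0,[1280,1280,1280,1280,1288,1288,1280,1288],[]⟩] [],
  .fc [⟨2,0,[1288,1280,1280,1280,1280,1288,1288,1280,1280],[]⟩] [],
  .fc [⟨2,0,[1280,1280,1288,1288,1288,1288,1288],[]⟩] [],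
  .fc [⟨2,0,[1280,1280,1288,1280,1288,1280,1280,1288],[]⟩] [],
  .df [5048,5072],
  .fc [⟨1,0,[351],[]⟩,⟨0,2,[353],[]⟩,⟨2,0,[630,626,630,628,626,628,630,632],[]⟩,⟨0,0,[638],[]⟩] [],
  .df [8952,8],
  .fc [⟨1,0,[653],[]⟩,⟨0,2,[1],[]⟩] [],
  .df [5304,4296],
  .fc [⟨1,0,[376],[]⟩,⟨0,2,[274],[]⟩,⟨2,0,[624,626,628,634,628,638,626,626],[]⟩,⟨0,0,[638],[]⟩] [],
  .df [8984,8],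
  .fc [⟨1,0,[655],[]⟩,⟨0,2,[1],[]⟩] [],
  .df [5336,4296],
  .fc [⟨1,0,[378],[]⟩,⟨0,2,[274],[]⟩,⟨2,0,[624,638,634,634,634,624,628,638],[]⟩,⟨0,0,[641],[]⟩] [],
  .df [9016,8],
  .fc [⟨1,0,[657],[]⟩,⟨0,2,[1],[]⟩] [],
  .df [5512,4600],
  .fc [⟨1,0,[396],[]⟩,⟨0,2,[309],[]⟩,⟨2,0,[626,638,624,634,624,632,624],[]⟩,⟨0,0,[641],[]⟩] [],
  .df [9048,8],
  .fc [⟨1,0,[659],[]⟩,⟨0,2,[1],[]⟩] [],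
  .df [5512,4736],
  .fc [⟨1,0,[396],[]⟩,⟨0,2,[322],[]⟩,⟨2,0,[624,624,626,626,632,630,632,630,636],[]⟩,⟨0,0,[641],[]⟩] [],
  .df [9080,8],
  .fc [⟨1,0,[661],[]⟩,⟨0,2,[1],[]⟩] [],
  .df [5512,5984],
  .fc [⟨1,0,[396],[]⟩,⟨0,2,[432],[]⟩,⟨2,0,[636,624,636,630,628,634,626],[]⟩,⟨0,0,[641],[]⟩] [],
  .df [9112,8],
  .fc [⟨1,0,[663],[]⟩,⟨0,2,[1],[]⟩] [],
  .df [5512,7312],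
  .fc [⟨1,0,[396],[]⟩,⟨0,2,[534],[]⟩,⟨2,0,[632,630,636,628,626,628,638],[]⟩,⟨0,0,[638],[]⟩] [],
  .df [9144,8],
  .fc [⟨1,0,[665],[]⟩,⟨0,2,[1],[]⟩] [],
  .df [5512,7344],
  .fc [⟨1,0,[396],[]⟩,⟨0,2,[536],[]⟩,⟨2,0,[634,634,634,626,628,628,632,632],[]⟩,⟨0,0,[641],[]⟩] [],
  .df [9176,8],
  .fc [⟨1,0,[667],[]⟩,⟨0,2,[1],[]⟩] [],
  .df [5512,4848],
  .fc [⟨1,0,[396],[]⟩,⟨0,2,[331],[]⟩,⟨2,0,[632,626,636,624,638,628,630],[]⟩,⟨0,0,[641],[]⟩] [],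
  .df [9208,8],
  .fc [⟨1,0,[669],[]⟩,⟨0,2,[1],[]⟩] [],
  .df [4104,4096,4,16],
  .fc [⟨0,0,[3],[4104,4096]⟩] [],
  .df [5512,9232],
  .fc [⟨1,0,[396],[]⟩,⟨0,2,[671],[]⟩,⟨2,0,[624,624,628,636,636,638,624,634],[]⟩,⟨0,0,[638],[]⟩] [],
  .df [9256,8],
  .fc [⟨1,0,[672],[]⟩,⟨0,2,[1],[]⟩] [],
  .df [4080,4112,4,16],
  .fc [⟨0,0,[3],[4080,4112]⟩] [],
  .df [5512,9280],
  .fc [⟨1,0,[396],[]⟩,⟨0,2,[674],[]⟩,⟨2,0,[634,626,632,626,624,634,634],[]⟩,⟨0,0,[641],[]⟩] [],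
  .df [9304,8],
  .fc [⟨1,0,[675],[]⟩,⟨0,2,[1],[]⟩] [],
  .df [4104,4072,4072,4,16],
  .fc [⟨0,0,[3],[4104,4072,4072]⟩] [],
  .df [5512,9328],
  .fc [⟨1,0,[396],[]⟩,⟨0,2,[677],[]⟩,⟨2,0,[624,628,628,632,624,638,630,634],[]⟩,⟨0,0,[641],[]⟩] [],
  .df [9352,8],
  .fc [⟨1,0,[678],[]⟩,⟨0,2,[1],[]⟩] [],
  .df [4072,4080,4072,4,16],
  .fc [⟨0,0,[3],[4072,4080,4072]⟩] [],
  .df [5512,9376]]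

theorem c1_7 : chk opsK elT1.get fsT1.get 1175 681 c1_7_i 1079 627 = true := by decide +kernel

/-- steps of the enumeration -/
noncomputable def c1_8_i : List Item :=
 [.fc [⟨1,0,[396],[]⟩,⟨0,2,[680],[]⟩,⟨2,0,[630,632,636,634,626,624,634],[]⟩,⟨0,0,[638],[]⟩] [],
  .df [9400,8],
  .fc [⟨1,0,[681],[]⟩,⟨0,2,[1],[]⟩] [],
  .df [5512,7488],
  .fc [⟨1,0,[396],[]⟩,⟨0,2,[545],[]⟩,⟨2,0,[626,626,628,636,636,630,634,636],[]⟩,⟨0,0,[641],[]⟩] [],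
  .df [9432,8],
  .fc [⟨1,0,[683],[]⟩,⟨0,2,[1],[]⟩] [],
  .df [6096,4296],
  .fc [⟨1,0,[443],[]⟩,⟨0,2,[274],[]⟩,⟨2,0,[626,634,636,636,636,638,634,626],[]⟩,⟨0,0,[641],[]⟩] [],
  .df [9464,8],
  .fc [⟨1,0,[685],[]⟩,⟨0,2,[1],[]⟩] [],
  .df [6096,5072],
  .fc [⟨1,0,[443],[]⟩,⟨0,2,[353],[]⟩,⟨2,0,[628,632,636,632,630,628,632,624],[]⟩,⟨0,0,[641],[]⟩] [],
  .df [9496,8],
  .fc [⟨1,0,[687],[]⟩,⟨0,2,[1],[]⟩] [],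
  .df [6096,5984],
  .fc [⟨1,0,[443],[]⟩,⟨0,2,[432],[]⟩,⟨2,0,[632,632,626,626,636,628,624],[]⟩,⟨0,0,[641],[]⟩] [],
  .df [9528,8],
  .fc [⟨1,0,[689],[]⟩,⟨0,2,[1],[]⟩] [],
  .df [6096,8592],
  .fc [⟨1,0,[443],[]⟩,⟨0,2,[625],[]⟩,⟨2,0,[624,628,632,628,636,634,638,638],[]⟩,⟨0,0,[638],[]⟩] [],
  .df [9560,8],
  .fc [⟨1,0,[691],[]⟩,⟨0,2,[1],[]⟩] [],
  .df [6096,6456],
  .fc [⟨1,0,[443],[]⟩,⟨0,2,[472],[]⟩,⟨2,0,[624,632,630,634,632,632,626],[]⟩,⟨0,0,[638],[]⟩] [],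
  .df [9592,8],
  .fc [⟨1,0,[693],[]⟩,⟨0,2,[1],[]⟩] [],
  .df [4080,4128,4,16],
  .fc [⟨0,0,[3],[4080,4128]⟩] [],
  .df [6096,9616],
  .fc [⟨1,0,[443],[]⟩,⟨0,2,[695],[]⟩,⟨2,0,[626,636,630,626,624,638,628,628],[]⟩,⟨0,0,[641],[]⟩] [],
  .df [9640,8],
  .fc [⟨1,0,[696],[]⟩,⟨0,2,[1],[]⟩] [],
  .fc [⟨1,0,[483],[]⟩,⟨0,2,[286],[]⟩,⟨2,0,[636,632,630,636,628,638,638],[]⟩,⟨0,0,[638],[]⟩] [],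
  .df [9664,8],
  .fc [⟨1,0,[698],[]⟩,⟨0,3,[1],[]⟩] [],
  .fc [⟨1,0,[483],[]⟩,⟨0,2,[274],[]⟩,⟨2,0,[632,626,626,632,632,636,628,638],[]⟩,⟨0,0,[641],[]⟩] [],
  .df [9680,8],
  .fc [⟨1,0,[700],[]⟩,⟨0,3,[1],[]⟩] [],
  .fc [⟨1,0,[483],[]⟩,⟨0,2,[322],[]⟩,⟨2,0,[626,636,626,630,634,632,626,630],[]⟩,⟨0,0,[638],[]⟩] [],
  .df [9696,8],
  .fc [⟨1,0,[702],[]⟩,⟨0,3,[1],[]⟩] [],
  .fc [⟨1,0,[483],[]⟩,⟨0,2,[583],[]⟩,⟨2,0,[624,624,624,624,628,628,632,624,636],[]⟩,⟨0,0,[641],[]⟩] [],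
  .df [9712,8],
  .fc [⟨1,0,[704],[]⟩,⟨0,3,[1],[]⟩] [],
  .fc [⟨1,0,[483],[]⟩,⟨0,2,[472],[]⟩,⟨2,0,[626,636,632,632,636,634,630,628],[]⟩,⟨0,0,[641],[]⟩] [],
  .df [9736,8],
  .fc [⟨1,0,[706],[]⟩,⟨0,3,[1],[]⟩] [],
  .df [4096,4072,4072,4,16],
  .fc [⟨0,0,[3],[4096,4072,4072]⟩] [],
  .fc [⟨1,0,[483],[]⟩,⟨0,2,[708],[]⟩,⟨2,0,[624,626,634,628,626,636,630],[]⟩,⟨0,0,[638],[]⟩] [],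
  .df [9776,8],
  .fc [⟨1,0,[709],[]⟩,⟨0,3,[1],[]⟩] [],
  .fc [⟨1,0,[570],[]⟩,⟨0,2,[309],[]⟩,⟨2,0,[628,628,630,630,634,630,626],[]⟩,⟨0,0,[638],[]⟩] [],
  .df [9800,8],
  .fc [⟨1,0,[711],[]⟩,⟨0,3,[1],[]⟩] [],
  .fc [⟨1,0,[570],[]⟩,⟨0,2,[459],[]⟩,⟨2,0,[624,636,636,638,632,624,624,636],[]⟩,⟨0,0,[641],[]⟩] [],
  .df [9816,8],
  .fc [⟨1,0,[713],[]⟩,⟨0,3,[1],[]⟩] [],
  .fc [⟨1,0,[570],[]⟩,⟨0,2,[432],[]⟩,⟨2,0,[632,624,628,628,628,634,634,626],[]⟩,⟨0,0,[641],[]⟩] [],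
  .df [9832,8],
  .fc [⟨1,0,[715],[]⟩,⟨0,3,[1],[]⟩] [],
  .fc [⟨1,0,[570],[]⟩,⟨0,2,[508],[]⟩,⟨2,0,[634,628,624,634,634,630,630],[]⟩,⟨0,0,[641],[]⟩] [],
  .df [9856,8],
  .fc [⟨1,0,[717],[]⟩,⟨0,3,[1],[]⟩] [],
  .df [4072,4112,4,16],
  .fc [⟨0,0,[3],[4072,4112]⟩] [],
  .fc [⟨1,0,[570],[]⟩,⟨0,2,[719],[]⟩,⟨2,0,[632,624,626,638,630,634,628,632],[]⟩,⟨0,0,[641],[]⟩] [],
  .df [9896,8],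
  .fc [⟨1,0,[720],[]⟩,⟨0,3,[1],[]⟩] [],
  .df [4104,4120,4096,4,16],
  .fc [⟨0,0,[3],[4104,4120,4096]⟩] [],
  .fc [⟨1,0,[570],[]⟩,⟨0,2,[722],[]⟩,⟨2,0,[636,630,638,636,630,624,626],[]⟩,⟨0,0,[641],[]⟩] [],
  .df [9936,8],
  .fc [⟨1,0,[723],[]⟩,⟨0,3,[1],[]⟩] [],
  .fc [⟨1,0,[638],[]⟩,⟨0,2,[0],[]⟩,⟨2,0,[626,624,632,638,630,634,638],[]⟩,⟨0,0,[638],[]⟩] [],
  .fc [⟨1,0,[638],[]⟩,⟨0,2,[534],[]⟩,⟨2,0,[624,628,628,636,632,630,636,634],[]⟩,⟨0,0,[638],[]⟩] [],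
  .fc [⟨1,0,[638],[]⟩,⟨0,2,[382],[]⟩,⟨2,0,[630,628,632,636,632,632,624,624],[]⟩,⟨0,0,[641],[]⟩] [],
  .fc [⟨1,0,[638],[]⟩,⟨0,2,[536],[]⟩,⟨2,0,[628,636,638,628,634,632,628],[]⟩,⟨0,0,[638],[]⟩] [],
  .df [4072,4088,4,16],
  .fc [⟨0,0,[3],[4072,4088]⟩] [],
  .fc [⟨1,0,[638],[]⟩,⟨0,2,[729],[]⟩,⟨2,0,[628,624,624,630,626,636,636],[]⟩,⟨0,0,[641],[]⟩] [],
  .fc [⟨1,0,[638],[]⟩,⟨0,2,[420],[]⟩,⟨2,0,[626,628,636,630,638,628,632,634],[]⟩,⟨0,0,[641],[]⟩] [],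
  .df [10016,8],
  .fc [⟨1,0,[731],[]⟩,⟨0,3,[1],[]⟩] [],
  .df [4072,4096,4,16],
  .fc [⟨0,0,[3],[4072,4096]⟩] []]

theorem c1_8 : chk opsK elT1.get fsT1.get 1257 734 c1_8_i 1175 681 = true := by decide +kernel

/-- steps of the enumeration -/
noncomputable def c1_9_i : List Item :=
 [.fc [⟨1,0,[638],[]⟩,⟨0,2,[733],[]⟩,⟨2,0,[632,626,626,630,632,636],[]⟩,⟨0,0,[638],[]⟩] [],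
  .df [4104,4104,4,16],
  .fc [⟨0,0,[3],[4104,4104]⟩] [],
  .fc [⟨1,0,[638],[]⟩,⟨0,2,[735],[]⟩,⟨2,0,[628,634,634,636,636,630],[]⟩,⟨0,0,[638],[]⟩] [],
  .df [10080,8],
  .fc [⟨1,0,[736],[]⟩,⟨0,3,[1],[]⟩] [],
  .fc [⟨1,0,[638],[]⟩,⟨0,2,[518],[]⟩,⟨2,0,[626,624,634,628,630,638,630,624],[]⟩,⟨0,0,[641],[]⟩] [],
  .df [10104,8],
  .fc [⟨1,0,[738],[]⟩,⟨0,3,[1],[]⟩] [],
  .fc [⟨1,0,[638],[]⟩,⟨0,2,[566],[]⟩,⟨2,0,[636,636,628,630,638,636,636],[]⟩,⟨0,0,[641],[]⟩] [],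
  .df [10128,8],
  .fc [⟨1,0,[740],[]⟩,⟨0,3,[1],[]⟩] [],
  .df [4080,4072,4080,4,16],
  .fc [⟨0,0,[3],[4080,4072,4080]⟩] [],
  .fc [⟨1,0,[638],[]⟩,⟨0,2,[742],[]⟩,⟨2,0,[624,624,624,628,636,634,626,624],[]⟩,⟨0,0,[638],[]⟩] [],
  .df [4120,4072,4072,4080,4,16],
  .fc [⟨0,0,[3],[4120,4072,4072,4080]⟩] [],
  .fc [⟨1,0,[638],[]⟩,⟨0,2,[744],[]⟩,⟨2,0,[624,624,624,626,626,630,632],[]⟩,⟨0,0,[638],[]⟩] [],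
  .df [8832,4600],
  .fc [⟨1,0,[641],[]⟩,⟨0,2,[309],[]⟩,⟨2,0,[626,632,638,624,632,632,630,624],[]⟩,⟨0,0,[641],[]⟩] [],
  .df [8832,5696],
  .fc [⟨1,0,[641],[]⟩,⟨0,2,[411],[]⟩,⟨2,0,[638,636,626,626,632,632,630],[]⟩,⟨0,0,[641],[]⟩] [],
  .df [8832,6552],
  .fc [⟨1,0,[641],[]⟩,⟨0,2,[478],[]⟩,⟨2,0,[628,630,626,628,626,630,628,624],[]⟩,⟨0,0,[641],[]⟩] [],
  .df [8832,8592],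
  .fc [⟨1,0,[641],[]⟩,⟨0,2,[625],[]⟩,⟨2,0,[638,628,632,632,632,634,630,636],[]⟩,⟨0,0,[641],[]⟩] [],
  .df [8832,8000],
  .fc [⟨1,0,[641],[]⟩,⟨0,2,[583],[]⟩,⟨2,0,[630,634,624,634,628,624,632,628],[]⟩,⟨0,0,[641],[]⟩] [],
  .df [10272,8],
  .fc [⟨1,0,[750],[]⟩,⟨0,3,[1],[]⟩] [],
  .df [8832,5840],
  .fc [⟨1,0,[641],[]⟩,⟨0,2,[420],[]⟩,⟨2,0,[628,634,638,628,626,628,628],[]⟩,⟨0,0,[641],[]⟩] [],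
  .df [4088,4128,4120,4072,4,16],
  .fc [⟨0,0,[3],[4088,4128,4120,4072]⟩] [],
  .df [8832,10312],
  .fc [⟨1,0,[641],[]⟩,⟨0,2,[753],[]⟩,⟨2,0,[636,632,638,636,628,632],[]⟩,⟨0,0,[641],[]⟩] [],
  .df [6752,4296],
  .fc [⟨1,0,[496],[]⟩,⟨0,2,[274],[]⟩,⟨2,0,[688,690,690,688,690,682,684,686],[]⟩,⟨0,0,[653],[]⟩] [],
  .df [10352,8],
  .fc [⟨1,0,[755],[]⟩,⟨0,3,[1],[]⟩] [],
  .df [6752,5072],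
  .fc [⟨1,0,[496],[]⟩,⟨0,2,[353],[]⟩,⟨2,0,[690,684,692,680,686,688,692],[]⟩,⟨0,0,[653],[]⟩] [],
  .df [10384,8],
  .fc [⟨1,0,[757],[]⟩,⟨0,3,[1],[]⟩] [],
  .df [6784,4296],
  .fc [⟨1,0,[498],[]⟩,⟨0,2,[274],[]⟩,⟨2,0,[684,690,694,686,694,688,680,688],[]⟩,⟨0,0,[653],[]⟩] [],
  .df [10416,8],
  .fc [⟨1,0,[759],[]⟩,⟨0,3,[1],[]⟩] [],
  .df [6784,6304],
  .fc [⟨1,0,[498],[]⟩,⟨0,2,[459],[]⟩,⟨2,0,[690,680,692,680,692,692,690,680],[]⟩,⟨0,0,[653],[]⟩] [],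
  .df [10448,8],
  .fc [⟨1,0,[761],[]⟩,⟨0,3,[1],[]⟩] [],
  .df [6784,6552],
  .fc [⟨1,0,[498],[]⟩,⟨0,2,[478],[]⟩,⟨2,0,[680,690,684,694,680,686,690,690],[]⟩,⟨0,0,[653],[]⟩] [],
  .df [10480,8],
  .fc [⟨1,0,[763],[]⟩,⟨0,3,[1],[]⟩] [],
  .df [4104,4080,4,16],
  .fc [⟨0,0,[3],[4104,4080]⟩] [],
  .df [6784,10504],
  .fc [⟨1,0,[498],[]⟩,⟨0,2,[765],[]⟩,⟨2,0,[686,694,690,686,694,688,690,684],[]⟩,⟨0,0,[653],[]⟩] [],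
  .df [10528,8],
  .fc [⟨1,0,[766],[]⟩,⟨0,3,[1],[]⟩] [],
  .df [4120,4088,4,16],
  .fc [⟨0,0,[3],[4120,4088]⟩] [],
  .df [6784,10552],
  .fc [⟨1,0,[498],[]⟩,⟨0,2,[768],[]⟩,⟨2,0,[694,690,686,690,694,686],[]⟩,⟨0,0,[653],[]⟩] [],
  .df [10576,8],
  .fc [⟨1,0,[769],[]⟩,⟨0,3,[1],[]⟩] [],
  .df [4128,4088,4,16],
  .fc [⟨0,0,[3],[4128,4088]⟩] [],
  .df [6784,10600],
  .fc [⟨1,0,[498],[]⟩,⟨0,2,[771],[]⟩,⟨2,0,[692,682,686,690,686,692],[]⟩,⟨0,0,[653],[]⟩] [],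
  .df [10624,8],
  .fc [⟨1,0,[772],[]⟩,⟨0,3,[1],[]⟩] [],
  .df [8952,5984],
  .fc [⟨1,0,[653],[]⟩,⟨0,2,[432],[]⟩,⟨2,0,[684,684,682,680,694,684,684,686],[]⟩,⟨0,0,[653],[]⟩] [],
  .df [8952,6936],
  .fc [⟨1,0,[653],[]⟩,⟨0,2,[508],[]⟩,⟨2,0,[680,690,692,684,694,686,690,692],[]⟩,⟨0,0,[653],[]⟩] [],
  .df [8952,8000],
  .fc [⟨1,0,[653],[]⟩,⟨0,2,[583],[]⟩,⟨2,0,[690,694,692,694,680,686,690],[]⟩,⟨0,0,[653],[]⟩] [],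
  .df [10688,8],
  .fc [⟨1,0,[776],[]⟩,⟨0,3,[1],[]⟩] [],
  .df [8952,8496],
  .fc [⟨1,0,[653],[]⟩,⟨0,2,[617],[]⟩,⟨2,0,[682,680,686,694,682,692,692],[]⟩,⟨0,0,[653],[]⟩] [],
  .df [4080,4096,4072,4,16]]

theorem c1_9 : chk opsK elT1.get fsT1.get 1342 779 c1_9_i 1257 734 = true := by decide +kernel

/-- steps of the enumeration -/
noncomputable def c1_10_i : List Item :=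
 [.fc [⟨0,0,[3],[4080,4096,4072]⟩] [],
  .df [8952,10728],
  .fc [⟨1,0,[653],[]⟩,⟨0,2,[779],[]⟩,⟨2,0,[682,684,682,680,682,690,686,692],[]⟩,⟨0,0,[653],[]⟩] [],
  .df [5640,4296],
  .fc [⟨1,0,[407],[]⟩,⟨0,2,[274],[]⟩,⟨2,0,[736,738,746,750,742,748,748,736],[]⟩,⟨0,0,[655],[]⟩] [],
  .df [10768,8],
  .fc [⟨1,0,[781],[]⟩,⟨0,2,[1],[]⟩] [],
  .df [5640,4600],
  .fc [⟨1,0,[407],[]⟩,⟨0,2,[309],[]⟩,⟨2,0,[742,740,748,740,746,746,742],[]⟩,⟨0,0,[657],[]⟩] [],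
  .df [10800,8],
  .fc [⟨1,0,[783],[]⟩,⟨0,2,[1],[]⟩] [],
  .df [5640,4736],
  .fc [⟨1,0,[407],[]⟩,⟨0,2,[322],[]⟩,⟨2,0,[740,742,736,742,748,742,748,750],[]⟩,⟨0,0,[657],[]⟩] [],
  .df [10832,8],
  .fc [⟨1,0,[785],[]⟩,⟨0,2,[1],[]⟩] [],
  .df [5640,5984],
  .fc [⟨1,0,[407],[]⟩,⟨0,2,[432],[]⟩,⟨2,0,[744,748,748,736,746,744,744],[]⟩,⟨0,0,[657],[]⟩] [],
  .df [10864,8],
  .fc [⟨1,0,[787],[]⟩,⟨0,2,[1],[]⟩] [],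
  .df [8056,4800],
  .fc [⟨1,0,[586],[]⟩,⟨0,2,[327],[]⟩,⟨2,0,[738,740,736,738,738,740,736],[]⟩,⟨0,0,[655],[]⟩] [],
  .df [10896,8],
  .fc [⟨1,0,[789],[]⟩,⟨0,3,[1],[]⟩] [],
  .df [8984,4600],
  .fc [⟨1,0,[655],[]⟩,⟨0,2,[309],[]⟩,⟨2,0,[740,748,742,742,744,742,744],[]⟩,⟨0,0,[657],[]⟩] [],
  .df [10928,8],
  .fc [⟨1,0,[791],[]⟩,⟨0,3,[1],[]⟩] [],
  .df [4112,4096,4096,4,16],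
  .fc [⟨0,0,[3],[4112,4096,4096]⟩] [],
  .df [8984,10952],
  .fc [⟨1,0,[655],[]⟩,⟨0,2,[793],[]⟩,⟨2,0,[736,744,742,750,740,742,746,748],[]⟩,⟨0,0,[655],[]⟩] [],
  .df [5672,5072],
  .fc [⟨1,0,[409],[]⟩,⟨0,2,[353],[]⟩,⟨2,0,[776,790,782,786,778,790,782],[]⟩,⟨0,0,[783],[]⟩] [],
  .df [10992,8],
  .fc [⟨1,0,[795],[]⟩,⟨0,2,[1],[]⟩] [],
  .df [5672,7344],
  .fc [⟨1,0,[409],[]⟩,⟨0,2,[536],[]⟩,⟨2,0,[778,780,782,790,778,790,778],[]⟩,⟨0,0,[795],[]⟩] [],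
  .df [11024,8],
  .fc [⟨1,0,[797],[]⟩,⟨0,2,[1],[]⟩] [],
  .df [4120,4080,4,16],
  .fc [⟨0,0,[3],[4120,4080]⟩] [],
  .df [5672,11048],
  .fc [⟨1,0,[409],[]⟩,⟨0,2,[799],[]⟩,⟨2,0,[780,786,778,776,782,788],[]⟩,⟨0,0,[678],[]⟩] [],
  .df [11072,8],
  .fc [⟨1,0,[800],[]⟩,⟨0,2,[1],[]⟩] [],
  .df [5672,7424],
  .fc [⟨1,0,[409],[]⟩,⟨0,2,[541],[]⟩,⟨2,0,[782,782,776,786,778,778,786],[]⟩,⟨0,0,[797],[]⟩] [],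
  .df [11104,8],
  .fc [⟨1,0,[802],[]⟩,⟨0,2,[1],[]⟩] [],
  .df [4120,4072,4072,4,16],
  .fc [⟨0,0,[3],[4120,4072,4072]⟩] [],
  .df [5688,11128],
  .fc [⟨1,0,[410],[]⟩,⟨0,2,[804],[]⟩,⟨2,0,[786,780,790,776,784,776],[]⟩,⟨0,0,[783],[]⟩] [],
  .df [11152,8],
  .fc [⟨1,0,[805],[]⟩,⟨0,2,[1],[]⟩] [],
  .df [6816,4296],
  .fc [⟨1,0,[500],[]⟩,⟨0,2,[274],[]⟩,⟨2,0,[780,782,786,786,782,780,788],[]⟩,⟨0,0,[783],[]⟩] [],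
  .df [11184,8],
  .fc [⟨1,0,[807],[]⟩,⟨0,3,[1],[]⟩] [],
  .df [6816,4800],
  .fc [⟨1,0,[500],[]⟩,⟨0,2,[327],[]⟩,⟨2,0,[778,778,778,784,782,778,790],[]⟩,⟨0,0,[785],[]⟩] [],
  .df [11216,8],
  .fc [⟨1,0,[809],[]⟩,⟨0,3,[1],[]⟩] [],
  .df [6816,5000],
  .fc [⟨1,0,[500],[]⟩,⟨0,2,[348],[]⟩,⟨2,0,[776,782,776,786,786,780,778,780],[]⟩,⟨0,0,[795],[]⟩] [],
  .df [11248,8],
  .fc [⟨1,0,[811],[]⟩,⟨0,3,[1],[]⟩] [],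
  .df [6816,5984],
  .fc [⟨1,0,[500],[]⟩,⟨0,2,[432],[]⟩,⟨2,0,[776,780,786,782,790,788,788,778],[]⟩,⟨0,0,[795],[]⟩] [],
  .df [11280,8],
  .fc [⟨1,0,[813],[]⟩,⟨0,3,[1],[]⟩] [],
  .df [6816,8592],
  .fc [⟨1,0,[500],[]⟩,⟨0,2,[625],[]⟩,⟨2,0,[786,784,778,784,780,782],[]⟩,⟨0,0,[802],[]⟩] [],
  .df [11312,8],
  .fc [⟨1,0,[815],[]⟩,⟨0,3,[1],[]⟩] [],
  .df [6816,8496],
  .fc [⟨1,0,[500],[]⟩,⟨0,2,[617],[]⟩,⟨2,0,[776,778,782,780,776,784],[]⟩,⟨0,0,[787],[]⟩] [],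
  .df [11344,8],
  .fc [⟨1,0,[817],[]⟩,⟨0,3,[1],[]⟩] [],
  .df [6816,4872],
  .fc [⟨1,0,[500],[]⟩,⟨0,2,[333],[]⟩,⟨2,0,[788,786,780,790,786,780],[]⟩,⟨0,0,[800],[]⟩] [],
  .df [11376,8],
  .fc [⟨1,0,[819],[]⟩,⟨0,3,[1],[]⟩] [],
  .df [4080,4088,4072,4,16],
  .fc [⟨0,0,[3],[4080,4088,4072]⟩] [],
  .df [6816,11400],
  .fc [⟨1,0,[500],[]⟩,⟨0,2,[821],[]⟩,⟨2,0,[778,776,780,784,782,788,782],[]⟩,⟨0,0,[659],[]⟩] [],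
  .df [11424,8],
  .fc [⟨1,0,[822],[]⟩,⟨0,3,[1],[]⟩] [],
  .df [4080,4112,4072,4,16],
  .fc [⟨0,0,[3],[4080,4112,4072]⟩] [],
  .df [6816,11448],
  .fc [⟨1,0,[500],[]⟩,⟨0,2,[824],[]⟩,⟨2,0,[778,786,790,784,780,782,790],[]⟩,⟨0,0,[659],[]⟩] [],
  .df [11472,8],
  .fc [⟨1,0,[825],[]⟩,⟨0,3,[1],[]⟩] [],
  .df [8120,4296]]

theorem c1_10 : chk opsK elT1.get fsT1.get 1438 827 c1_10_i 1342 779 = true := by decide +kernel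

/-- steps of the enumeration -/
noncomputable def c1_11_i : List Item :=
 [.fc [⟨1,0,[590],[]⟩,⟨0,2,[274],[]⟩,⟨2,0,[778,784,790,778,784,778,776],[]⟩,⟨0,0,[795],[]⟩] [],
  .df [11504,8],
  .fc [⟨1,0,[827],[]⟩,⟨0,3,[1],[]⟩] [],
  .df [8120,5000],
  .fc [⟨1,0,[590],[]⟩,⟨0,2,[348],[]⟩,⟨2,0,[790,786,784,780,786,786,786],[]⟩,⟨0,0,[800],[]⟩] [],
  .df [11536,8],
  .fc [⟨1,0,[829],[]⟩,⟨0,3,[1],[]⟩] [],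
  .df [9048,4296],
  .fc [⟨1,0,[659],[]⟩,⟨0,2,[274],[]⟩,⟨2,0,[784,776,786,778,786,778],[]⟩,⟨0,0,[781],[]⟩] [],
  .df [11568,8],
  .fc [⟨1,0,[831],[]⟩,⟨0,3,[1],[]⟩] [],
  .df [9048,4736],
  .fc [⟨1,0,[659],[]⟩,⟨0,2,[322],[]⟩,⟨2,0,[784,784,780,790,780,790],[]⟩,⟨0,0,[667],[]⟩] [],
  .df [9048,6304],
  .fc [⟨1,0,[659],[]⟩,⟨0,2,[459],[]⟩,⟨2,0,[776,778,784,780,780,788,784],[]⟩,⟨0,0,[781],[]⟩] [],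
  .df [11616,8],
  .fc [⟨1,0,[834],[]⟩,⟨0,3,[1],[]⟩] [],
  .df [9048,5984],
  .fc [⟨1,0,[659],[]⟩,⟨0,2,[432],[]⟩,⟨2,0,[776,780,776,790,786,786,786],[]⟩,⟨0,0,[781],[]⟩] [],
  .df [9048,6936],
  .fc [⟨1,0,[659],[]⟩,⟨0,2,[508],[]⟩,⟨2,0,[784,790,784,790,776,790],[]⟩,⟨0,0,[787],[]⟩] [],
  .df [9048,5192],
  .fc [⟨1,0,[659],[]⟩,⟨0,2,[365],[]⟩,⟨2,0,[778,784,784,778,790,790,790],[]⟩,⟨0,0,[800],[]⟩] [],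
  .df [11680,8],
  .fc [⟨1,0,[838],[]⟩,⟨0,3,[1],[]⟩] [],
  .df [9048,5728],
  .fc [⟨1,0,[659],[]⟩,⟨0,2,[413],[]⟩,⟨2,0,[782,778,782,778,786,778],[]⟩,⟨0,0,[795],[]⟩] [],
  .df [9048,10504],
  .fc [⟨1,0,[659],[]⟩,⟨0,2,[765],[]⟩,⟨2,0,[790,782,784,790,790,784,788],[]⟩,⟨0,0,[795],[]⟩] [],
  .df [11728,8],
  .fc [⟨1,0,[841],[]⟩,⟨0,3,[1],[]⟩] [],
  .df [9048,5608],
  .fc [⟨1,0,[659],[]⟩,⟨0,2,[405],[]⟩,⟨2,0,[778,786,778,784,778,784,780],[]⟩,⟨0,0,[781],[]⟩] [],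
  .df [11760,8],
  .fc [⟨1,0,[843],[]⟩,⟨0,3,[1],[]⟩] [],
  .df [9048,11128],
  .fc [⟨1,0,[659],[]⟩,⟨0,2,[804],[]⟩,⟨2,0,[776,790,778,780,778],[]⟩,⟨0,0,[783],[]⟩] [],
  .df [4104,4088,4080,4,16],
  .fc [⟨0,0,[3],[4104,4088,4080]⟩] [],
  .df [9048,11800],
  .fc [⟨1,0,[659],[]⟩,⟨0,2,[846],[]⟩,⟨2,0,[788,782,782,782,790,782,788],[]⟩,⟨0,0,[800],[]⟩] [],
  .df [9048,8256],
  .fc [⟨1,0,[659],[]⟩,⟨0,2,[599],[]⟩,⟨2,0,[776,784,784,780,788,776],[]⟩,⟨0,0,[659],[]⟩] [],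
  .df [4120,4096,4088,4,16],
  .fc [⟨0,0,[3],[4120,4096,4088]⟩] [],
  .df [9048,11848],
  .fc [⟨1,0,[659],[]⟩,⟨0,2,[849],[]⟩,⟨2,0,[780,788,782,790,788,778],[]⟩,⟨0,0,[659],[]⟩] [],
  .df [4088,4072,4096,4,16],
  .fc [⟨0,0,[3],[4088,4072,4096]⟩] [],
  .df [9048,11880],
  .fc [⟨1,0,[659],[]⟩,⟨0,2,[851],[]⟩,⟨2,0,[780,780,788,776,780,790,788],[]⟩,⟨0,0,[783],[]⟩] [],
  .df [4152,4136,4144],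
  .fc [] [],
  .fc [⟨1,0,[853],[]⟩,⟨0,2,[1],[]⟩] [],
  .fc [⟨1,0,[853],[]⟩,⟨2,0,[680,680,686,684,680,692,688,692,684,686,686,694,692],[]⟩,⟨0,0,[853],[]⟩] [],
  .df [5128,7776],
  .fc [⟨1,0,[358],[]⟩,⟨0,2,[563],[]⟩,⟨2,0,[680,692,690,686,684,684],[]⟩,⟨0,0,[853],[]⟩] [],
  .fc [⟨1,0,[856],[]⟩,⟨2,0,[680,684,694,688],[]⟩,⟨0,0,[853],[]⟩] [],
  .fc [⟨2,0,[1714,1710,1714,1714,1714,1714,1714],[]⟩] [],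
  .fc [⟨2,0,[1714,1710,1714,1710,1710,1714,1714,1710],[]⟩] [],
  .fc [⟨2,0,[1714,1710,1710,1714,1710,1710,1710,1710,1710],[]⟩] [],
  .fc [⟨2,0,[1714,1710,1714,1714,1710,1710,1710],[]⟩] [],
  .fc [⟨2,0,[1710,1714,1714,1710,1714,1714,1710,1714],[]⟩] [],
  .fc [⟨2,0,[1710,1714,1714,1714,1714,1710,1714,1714,1710],[]⟩] [],
  .fc [⟨2,0,[1714,1710,1714,1714,1714,1710,1714],[]⟩] [],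
  .fc [⟨2,0,[1710,1710,1714,1714,1714,1710,1714,1714],[]⟩] [],
  .df [4104,4080,4072,4,16],
  .fc [⟨0,0,[3],[4104,4080,4072]⟩] [],
  .df [5128,12024],
  .fc [⟨1,0,[358],[]⟩,⟨0,2,[866],[]⟩,⟨2,0,[690,686,682,686,692],[]⟩,⟨0,0,[853],[]⟩] [],
  .df [12048,8],
  .fc [⟨1,0,[867],[]⟩,⟨0,2,[1],[]⟩] [],
  .df [5544,10040],
  .fc [⟨1,0,[398],[]⟩,⟨0,2,[733],[]⟩,⟨2,0,[682,686,684,684,686,682,688],[]⟩,⟨0,0,[867],[]⟩] [],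
  .df [12080,8],
  .fc [⟨1,0,[869],[]⟩,⟨0,2,[1],[]⟩] [],
  .df [6752,6408],
  .fc [⟨1,0,[496],[]⟩,⟨0,2,[469],[]⟩,⟨2,0,[684,680,688,690,692],[]⟩,⟨0,0,[853],[]⟩] [],
  .df [12112,8],
  .fc [⟨1,0,[871],[]⟩,⟨0,3,[1],[]⟩] [],
  .df [6784,5000],
  .fc [⟨1,0,[498],[]⟩,⟨0,2,[348],[]⟩,⟨2,0,[680,688,692,688,690,692,684],[]⟩,⟨0,0,[867],[]⟩] [],
  .df [12144,8],
  .fc [⟨1,0,[873],[]⟩,⟨0,3,[1],[]⟩] [],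
  .df [4112,4128,4072,4,16],
  .fc [⟨0,0,[3],[4112,4128,4072]⟩] [],
  .df [6784,12168],
  .fc [⟨1,0,[498],[]⟩,⟨0,2,[875],[]⟩,⟨2,0,[688,692,684,694,694,690,692],[]⟩,⟨0,0,[867],[]⟩] [],
  .df [12192,8]]

theorem c1_11 : chk opsK elT1.get fsT1.get 1526 877 c1_11_i 1438 827 = true := by decide +kernel

end CfsgLib.MonK.Dce
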