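import Mathlib
import Cfsg.Agent.Lib.MonK.Tab
import Cfsg.Agent.Lib.Mon.DceT1

/-!
Part 2 of the certificate of the double coset enumeration number 1 (generated by `tools/mon/genchunks.py`).
-/

set_option autoImplicit false
set_option maxRecDepth 100000
set_option Elab.async false

namespace CfsgLib.MonK.Dce

open CfsgLib.DCX CfsgLib.Mon.Dce

/-- steps of the enumeration -/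
noncomputable def c1_12_i : List Item :=
 [.fc [⟨1,0,[876],[]⟩,⟨0,3,[1],[]⟩] [],
  .df [8952,9280],
  .fc [⟨1,0,[653],[]⟩,⟨0,2,[674],[]⟩,⟨2,0,[680,688,692,682,694,686],[]⟩,⟨0,0,[867],[]⟩] [],
  .df [12224,8],
  .fc [⟨1,0,[878],[]⟩,⟨0,3,[1],[]⟩] [],
  .df [4080,4080,4088,4,16],
  .fc [⟨0,0,[3],[4080,4080,4088]⟩] [],
  .df [8952,12248],
  .fc [⟨1,0,[653],[]⟩,⟨0,2,[880],[]⟩,⟨2,0,[684,682,684,684,694,688,682],[]⟩,⟨0,0,[867],[]⟩] [],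
  .df [12272,8],
  .fc [⟨1,0,[881],[]⟩,⟨0,3,[1],[]⟩] [],
  .fc [⟨1,0,[853],[]⟩,⟨0,2,[0],[]⟩,⟨2,0,[688,682,688,682,684],[]⟩,⟨0,0,[853],[]⟩] [],
  .fc [⟨1,0,[853],[]⟩,⟨0,2,[508],[]⟩,⟨2,0,[686,692,694,682,694,682],[]⟩,⟨0,0,[853],[]⟩] [],
  .df [12048,4800],
  .fc [⟨1,0,[867],[]⟩,⟨0,2,[327],[]⟩,⟨2,0,[682,690,680,688,682,680,694],[]⟩,⟨0,0,[867],[]⟩] [],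
  .df [4072,4112,4080,4,16],
  .fc [⟨0,0,[3],[4072,4112,4080]⟩] [],
  .df [9048,12328],
  .fc [⟨1,0,[659],[]⟩,⟨0,2,[886],[]⟩,⟨2,0,[776,776,784,780,784,782,782],[]⟩,⟨0,0,[869],[]⟩] [],
  .df [12352,8],
  .fc [⟨1,0,[887],[]⟩,⟨0,3,[1],[]⟩] [],
  .fc [⟨0,0,[0],[]⟩,⟨2,0,[538,538,538,538,538],[7]⟩,⟨0,0,[258],[7,0]⟩] [],
  .fc [⟨0,0,[0],[]⟩,⟨2,0,[538,538,538,538,538],[7]⟩,⟨0,0,[270],[7,4136]⟩] [],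
  .fc [⟨0,0,[0],[]⟩,⟨2,0,[526,534,532,530,532,534,532],[7]⟩,⟨0,0,[288],[7,4408]⟩] [],
  .fc [⟨0,1,[0],[]⟩,⟨0,0,[285],[]⟩] [],
  .fc [⟨0,1,[0],[]⟩,⟨2,0,[562,568,560,558,568],[]⟩,⟨0,0,[287],[]⟩] [],
  .fc [⟨0,1,[0],[]⟩,⟨2,0,[560,560,560,560],[]⟩,⟨0,0,[300],[]⟩] [],
  .fc [⟨0,1,[0],[]⟩,⟨2,0,[558,558,558,558,558,558],[]⟩,⟨0,0,[306],[]⟩] [],
  .fc [⟨0,1,[0],[]⟩,⟨2,0,[560,560,560,560],[]⟩,⟨0,0,[335],[]⟩] [],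
  .fc [⟨0,1,[0],[]⟩,⟨0,0,[302],[]⟩] [],
  .fc [⟨0,1,[0],[]⟩,⟨2,0,[584,590,584,590,592],[]⟩,⟨0,0,[303],[]⟩] [],
  .fc [⟨0,1,[0],[]⟩,⟨2,0,[590,590,590,590,590],[]⟩,⟨0,0,[305],[]⟩] [],
  .fc [⟨0,1,[0],[]⟩,⟨2,0,[584,586,596,586,598,590,598,596],[]⟩,⟨0,0,[320],[]⟩] [],
  .fc [⟨0,1,[0],[]⟩,⟨2,0,[590,590,590,590,590],[]⟩,⟨0,0,[323],[]⟩] [],
  .fc [⟨0,1,[0],[]⟩,⟨2,0,[590,590,590,590,590],[]⟩,⟨0,0,[349],[]⟩] [],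
  .fc [⟨0,1,[0],[]⟩,⟨2,0,[590,590,590,590,590],[]⟩,⟨0,0,[362],[]⟩] [],
  .fc [⟨0,1,[0],[]⟩,⟨2,0,[590,590,590,590,590],[]⟩,⟨0,0,[384],[]⟩] [],
  .fc [⟨0,1,[0],[]⟩,⟨2,0,[590,590,590,590,590],[]⟩,⟨0,0,[428],[]⟩] [],
  .fc [⟨0,2,[0],[]⟩,⟨0,0,[325],[]⟩] [],
  .fc [⟨0,2,[0],[]⟩,⟨2,0,[634,628,636,630],[]⟩,⟨0,0,[332],[]⟩] [],
  .fc [⟨0,2,[0],[]⟩,⟨2,0,[624,630,638],[]⟩,⟨0,0,[330],[]⟩] [],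
  .fc [⟨0,2,[0],[]⟩,⟨2,0,[626,638,636,636,626,636],[]⟩,⟨0,0,[326],[]⟩] [],
  .fc [⟨0,2,[0],[]⟩,⟨2,0,[636,632,638,632,638],[]⟩,⟨0,0,[351],[]⟩] [],
  .fc [⟨0,2,[0],[]⟩,⟨2,0,[626,634,636,634],[]⟩,⟨0,0,[334],[]⟩] [],
  .fc [⟨0,2,[0],[]⟩,⟨2,0,[628,638,632,626,632,624],[]⟩,⟨0,0,[354],[]⟩] [],
  .fc [⟨0,2,[0],[]⟩,⟨2,0,[628,628,630,630,624,634],[]⟩,⟨0,0,[376],[]⟩] [],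
  .fc [⟨0,2,[0],[]⟩,⟨2,0,[632,630,624,632,624],[]⟩,⟨0,0,[445],[]⟩] [],
  .fc [⟨0,2,[0],[]⟩,⟨2,0,[624,632,624,632,624,632,624,632],[]⟩,⟨0,0,[396],[]⟩] [],
  .fc [⟨0,2,[0],[]⟩,⟨2,0,[624,624,624,628,628,626,624,632],[]⟩,⟨0,0,[443],[]⟩] [],
  .fc [⟨0,2,[0],[]⟩,⟨2,0,[634,630,634,630,634,630],[]⟩,⟨0,0,[447],[]⟩] [],
  .fc [⟨0,2,[0],[]⟩,⟨2,0,[632,632,638,624,634,628,624],[]⟩,⟨0,0,[483],[]⟩] [],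
  .fc [⟨0,2,[0],[]⟩,⟨2,0,[628,628,636,626,638,638],[]⟩,⟨0,0,[570],[]⟩] [],
  .fc [⟨0,2,[0],[]⟩,⟨2,0,[626,624,632,638,630,634,638],[]⟩,⟨0,0,[638],[]⟩] [],
  .fc [⟨0,2,[0],[]⟩,⟨2,0,[628,626,624,630],[]⟩,⟨0,0,[641],[]⟩] [],
  .fc [⟨0,2,[0],[]⟩,⟨0,0,[356],[]⟩] [],
  .fc [⟨0,2,[0],[]⟩,⟨2,0,[686,682,692],[]⟩,⟨0,0,[361],[]⟩] [],
  .fc [⟨0,2,[0],[]⟩,⟨2,0,[684,680,684,688,684],[]⟩,⟨0,0,[352],[]⟩] [],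
  .fc [⟨0,2,[0],[]⟩,⟨2,0,[684,694,688,686,692],[]⟩,⟨0,0,[359],[]⟩] [],
  .fc [⟨0,2,[0],[]⟩,⟨2,0,[680,690,692],[]⟩,⟨0,0,[357],[]⟩] [],
  .fc [⟨0,2,[0],[]⟩,⟨2,0,[682,680,692,690,686,690],[]⟩,⟨0,0,[358],[]⟩] [],
  .fc [⟨0,2,[0],[]⟩,⟨2,0,[680,688,680,690,688,694],[]⟩,⟨0,0,[398],[]⟩] []]

theorem c1_12 : chk opsK elT1.get fsT1.get 1577 929 c1_12_i 1526 877 = true := by decide +kernel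

/-- steps of the enumeration -/
noncomputable def c1_13_i : List Item :=
 [.fc [⟨0,2,[0],[]⟩,⟨2,0,[686,694,680,686,684,682],[]⟩,⟨0,0,[449],[]⟩] [],
  .fc [⟨0,2,[0],[]⟩,⟨2,0,[688,686,692,690,686,684],[]⟩,⟨0,0,[496],[]⟩] [],
  .fc [⟨0,2,[0],[]⟩,⟨2,0,[686,686,688,694,686,686],[]⟩,⟨0,0,[498],[]⟩] [],
  .fc [⟨0,2,[0],[]⟩,⟨2,0,[682,686,692,692,684,690],[]⟩,⟨0,0,[584],[]⟩] [],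
  .fc [⟨0,2,[0],[]⟩,⟨2,0,[690,694,682,694,692,690,688],[]⟩,⟨0,0,[653],[]⟩] [],
  .fc [⟨0,2,[0],[]⟩,⟨2,0,[688,682,688,682,684],[]⟩,⟨0,0,[853],[]⟩] [],
  .fc [⟨0,2,[0],[]⟩,⟨2,0,[690,688,682,680,692,688],[]⟩,⟨0,0,[867],[]⟩] [],
  .fc [⟨0,2,[0],[]⟩,⟨0,0,[380],[]⟩] [],
  .fc [⟨0,2,[0],[]⟩,⟨2,0,[736,742,746,750,742,744],[]⟩,⟨0,0,[381],[]⟩] [],
  .fc [⟨0,2,[0],[]⟩,⟨2,0,[736,742,748,736,736],[]⟩,⟨0,0,[453],[]⟩] [],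
  .fc [⟨0,2,[0],[]⟩,⟨2,0,[736,738,746,746,738,746],[]⟩,⟨0,0,[383],[]⟩] [],
  .fc [⟨0,2,[0],[]⟩,⟨2,0,[746,750,742,740,750,740,736],[]⟩,⟨0,0,[451],[]⟩] [],
  .fc [⟨0,2,[0],[]⟩,⟨2,0,[736,748,744,750,744,742,750,738],[]⟩,⟨0,0,[407],[]⟩] [],
  .fc [⟨0,2,[0],[]⟩,⟨2,0,[750,742,746,742,736,740],[]⟩,⟨0,0,[586],[]⟩] [],
  .fc [⟨0,2,[0],[]⟩,⟨2,0,[736,746,738,750,736,742],[]⟩,⟨0,0,[588],[]⟩] [],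
  .fc [⟨0,2,[0],[]⟩,⟨2,0,[736,746,738,738,738,740,740],[]⟩,⟨0,0,[655],[]⟩] [],
  .fc [⟨0,2,[0],[]⟩,⟨2,0,[742,746,738,740,740,740],[]⟩,⟨0,0,[657],[]⟩] [],
  .fc [⟨0,2,[0],[]⟩,⟨0,0,[402],[]⟩] [],
  .fc [⟨0,2,[0],[]⟩,⟨2,0,[790,786],[]⟩,⟨0,0,[404],[]⟩] [],
  .fc [⟨0,2,[0],[]⟩,⟨2,0,[788,778,778],[]⟩,⟨0,0,[406],[]⟩] [],
  .fc [⟨0,2,[0],[]⟩,⟨2,0,[780,782,782],[]⟩,⟨0,0,[460],[]⟩] [],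
  .fc [⟨0,2,[0],[]⟩,⟨2,0,[776,782,780,782],[]⟩,⟨0,0,[403],[]⟩] [],
  .fc [⟨0,2,[0],[]⟩,⟨2,0,[786,790,778,782],[]⟩,⟨0,0,[418],[]⟩] [],
  .fc [⟨0,2,[0],[]⟩,⟨2,0,[776,788,788,790,776,788],[]⟩,⟨0,0,[672],[]⟩] [],
  .fc [⟨0,2,[0],[]⟩,⟨2,0,[790,784,786,788],[]⟩,⟨0,0,[681],[]⟩] [],
  .fc [⟨0,2,[0],[]⟩,⟨2,0,[776,780,780,780,784,784],[]⟩,⟨0,0,[412],[]⟩] [],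
  .fc [⟨0,2,[0],[]⟩,⟨2,0,[776,782,788,788,776],[]⟩,⟨0,0,[470],[]⟩] [],
  .fc [⟨0,2,[0],[]⟩,⟨2,0,[776,780,784,786,780],[]⟩,⟨0,0,[476],[]⟩] [],
  .fc [⟨0,2,[0],[]⟩,⟨2,0,[776,776,786,786,790,778,776],[]⟩,⟨0,0,[787],[]⟩] [],
  .fc [⟨0,2,[0],[]⟩,⟨2,0,[782,784,788,780,788],[]⟩,⟨0,0,[628],[]⟩] [],
  .fc [⟨0,2,[0],[]⟩,⟨2,0,[784,784,782,782,780,782],[]⟩,⟨0,0,[785],[]⟩] [],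
  .fc [⟨0,2,[0],[]⟩,⟨2,0,[784,784,776,780,780,780],[]⟩,⟨0,0,[548],[]⟩] [],
  .fc [⟨0,2,[0],[]⟩,⟨2,0,[776,778,784,786,778,788],[]⟩,⟨0,0,[560],[]⟩] [],
  .fc [⟨0,2,[0],[]⟩,⟨2,0,[784,786,782,790],[]⟩,⟨0,0,[631],[]⟩] [],
  .fc [⟨0,2,[0],[]⟩,⟨2,0,[776,790,788,782],[]⟩,⟨0,0,[457],[]⟩] [],
  .fc [⟨0,2,[0],[]⟩,⟨2,0,[778,782,790,788,786,788],[]⟩,⟨0,0,[663],[]⟩] [],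
  .fc [⟨0,2,[0],[]⟩,⟨2,0,[790,788,778,782],[]⟩,⟨0,0,[669],[]⟩] [],
  .fc [⟨0,2,[0],[]⟩,⟨2,0,[782,784,782,776,790],[]⟩,⟨0,0,[597],[]⟩] [],
  .fc [⟨0,2,[0],[]⟩,⟨2,0,[778,786,786,782,786,788],[]⟩,⟨0,0,[678],[]⟩] [],
  .fc [⟨0,2,[0],[]⟩,⟨2,0,[776,780,784,784,784,790,790,776],[]⟩,⟨0,0,[522],[]⟩] [],
  .fc [⟨0,2,[0],[]⟩,⟨2,0,[776,788,780,778,782,784],[]⟩,⟨0,0,[551],[]⟩] [],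
  .fc [⟨0,2,[0],[]⟩,⟨2,0,[776,778,790,786,784,782,776,782],[]⟩,⟨0,0,[800],[]⟩] [],
  .fc [⟨0,2,[0],[]⟩,⟨2,0,[776,790,776,788,784,778,784,790],[]⟩,⟨0,0,[795],[]⟩] [],
  .fc [⟨0,2,[0],[]⟩,⟨2,0,[776,782,778,782,788],[]⟩,⟨0,0,[675],[]⟩] [],
  .fc [⟨0,2,[0],[]⟩,⟨2,0,[776,780,780,780,778,788],[]⟩,⟨0,0,[592],[]⟩] [],
  .fc [⟨0,2,[0],[]⟩,⟨2,0,[790,790,790],[]⟩,⟨0,0,[683],[]⟩] [],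
  .fc [⟨0,2,[0],[]⟩,⟨2,0,[780,788,780,778],[]⟩,⟨0,0,[661],[]⟩] [],
  .fc [⟨0,2,[0],[]⟩,⟨2,0,[780,786,788,784,784,786,776],[]⟩,⟨0,0,[659],[]⟩] [],
  .fc [⟨0,2,[0],[]⟩,⟨2,0,[780,784,778,790,788],[]⟩,⟨0,0,[665],[]⟩] [],
  .fc [⟨0,2,[0],[]⟩,⟨2,0,[776,786,790,784,780,790],[]⟩,⟨0,0,[667],[]⟩] []]

theorem c1_13 : chk opsK elT1.get fsT1.get 1626 979 c1_13_i 1577 929 = true := by decide +kernel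

/-- steps of the enumeration -/
noncomputable def c1_14_i : List Item :=
 [.fc [⟨0,2,[0],[]⟩,⟨2,0,[776,780,788,778,788,776,778],[]⟩,⟨0,0,[783],[]⟩] [],
  .fc [⟨0,2,[0],[]⟩,⟨2,0,[776,778,782,786,790,782,786],[]⟩,⟨0,0,[802],[]⟩] [],
  .fc [⟨0,2,[0],[]⟩,⟨2,0,[788,784,784,780,784,786],[]⟩,⟨0,0,[805],[]⟩] [],
  .fc [⟨0,2,[0],[]⟩,⟨2,0,[778,776,788,778,780],[]⟩,⟨0,0,[869],[]⟩] [],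
  .fc [⟨0,2,[0],[]⟩,⟨0,0,[462],[]⟩] [],
  .fc [⟨0,2,[0],[]⟩,⟨2,0,[872,882,878,876,872],[]⟩,⟨0,0,[463],[]⟩] [],
  .fc [⟨0,2,[0],[]⟩,⟨2,0,[872,876,872],[]⟩,⟨0,0,[454],[]⟩] [],
  .fc [⟨0,2,[0],[]⟩,⟨2,0,[874,872,882],[]⟩,⟨0,0,[468],[]⟩] [],
  .fc [⟨0,2,[0],[]⟩,⟨2,0,[872,884,880,870,876],[]⟩,⟨0,0,[464],[]⟩] [],
  .fc [⟨0,2,[0],[]⟩,⟨2,0,[870,880,882,878,882],[]⟩,⟨0,0,[461],[]⟩] [],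
  .fc [⟨0,2,[0],[]⟩,⟨2,0,[872,874,884,876,882,880],[]⟩,⟨0,0,[466],[]⟩] [],
  .fc [⟨0,2,[0],[]⟩,⟨2,0,[884,874,880,876,880],[]⟩,⟨0,0,[465],[]⟩] [],
  .fc [⟨0,2,[0],[]⟩,⟨2,0,[872,874,884,882,878,870,870],[]⟩,⟨0,0,[471],[]⟩] [],
  .fc [⟨0,2,[0],[]⟩,⟨2,0,[884,874,872,884,874,870],[]⟩,⟨0,0,[691],[]⟩] [],
  .fc [⟨0,2,[0],[]⟩,⟨2,0,[876,884,870,884,880,872],[]⟩,⟨0,0,[477],[]⟩] [],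
  .fc [⟨0,2,[0],[]⟩,⟨2,0,[872,872,876,880],[]⟩,⟨0,0,[608],[]⟩] [],
  .fc [⟨0,2,[0],[]⟩,⟨2,0,[874,870,874,882,880,876],[]⟩,⟨0,0,[480],[]⟩] [],
  .fc [⟨0,2,[0],[]⟩,⟨2,0,[870,870,874,870,884,872],[]⟩,⟨0,0,[482],[]⟩] [],
  .fc [⟨0,2,[0],[]⟩,⟨2,0,[870,874,870,872,882,880,874],[]⟩,⟨0,0,[685],[]⟩] [],
  .fc [⟨0,2,[0],[]⟩,⟨2,0,[870,872,876,884,874,876,878],[]⟩,⟨0,0,[512],[]⟩] [],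
  .fc [⟨0,2,[0],[]⟩,⟨2,0,[870,870,884,880,870,870,884,880],[]⟩,⟨0,0,[524],[]⟩] [],
  .fc [⟨0,2,[0],[]⟩,⟨2,0,[874,878,880,884,884,870,870],[]⟩,⟨0,0,[687],[]⟩] [],
  .fc [⟨0,2,[0],[]⟩,⟨2,0,[872,876,882,872,876,872],[]⟩,⟨0,0,[604],[]⟩] [],
  .fc [⟨0,2,[0],[]⟩,⟨2,0,[870,872,874,878,870,878],[]⟩,⟨0,0,[606],[]⟩] [],
  .fc [⟨0,2,[0],[]⟩,⟨2,0,[870,870,884,880,870,870,884,880],[]⟩,⟨0,0,[689],[]⟩] [],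
  .fc [⟨0,2,[0],[]⟩,⟨2,0,[876,884,872,882,876,878],[]⟩,⟨0,0,[693],[]⟩] [],
  .fc [⟨0,2,[0],[]⟩,⟨2,0,[872,878,876,884,876,874],[]⟩,⟨0,0,[696],[]⟩] [],
  .fc [⟨0,3,[0],[]⟩,⟨0,0,[514],[]⟩] [],
  .fc [⟨0,3,[0],[]⟩,⟨2,0,[986,986],[]⟩,⟨0,0,[521],[]⟩] [],
  .fc [⟨0,3,[0],[]⟩,⟨0,0,[519],[]⟩] [],
  .fc [⟨0,3,[0],[]⟩,⟨2,0,[984,976,990,976],[]⟩,⟨0,0,[706],[]⟩] [],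
  .fc [⟨0,3,[0],[]⟩,⟨2,0,[984,990,990],[]⟩,⟨0,0,[610],[]⟩] [],
  .fc [⟨0,3,[0],[]⟩,⟨2,0,[988,986,988,976,976],[]⟩,⟨0,0,[704],[]⟩] [],
  .fc [⟨0,3,[0],[]⟩,⟨2,0,[976,982,990,982,988],[]⟩,⟨0,0,[700],[]⟩] [],
  .fc [⟨0,3,[0],[]⟩,⟨2,0,[980,988,984,984,978],[]⟩,⟨0,0,[515],[]⟩] [],
  .fc [⟨0,3,[0],[]⟩,⟨2,0,[978,984,980,978,986],[]⟩,⟨0,0,[698],[]⟩] [],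
  .fc [⟨0,3,[0],[]⟩,⟨2,0,[978,978,990,984,976,988],[]⟩,⟨0,0,[544],[]⟩] [],
  .fc [⟨0,3,[0],[]⟩,⟨2,0,[976,976,986,982,984,984],[]⟩,⟨0,0,[540],[]⟩] [],
  .fc [⟨0,3,[0],[]⟩,⟨2,0,[986,984,980,976,978],[]⟩,⟨0,0,[526],[]⟩] [],
  .fc [⟨0,3,[0],[]⟩,⟨2,0,[982,990,980,978],[]⟩,⟨0,0,[871],[]⟩] [],
  .fc [⟨0,3,[0],[]⟩,⟨2,0,[978,978,986,990,988],[]⟩,⟨0,0,[530],[]⟩] [],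
  .fc [⟨0,3,[0],[]⟩,⟨2,0,[982,984,988,978,986,986,982],[]⟩,⟨0,0,[761],[]⟩] [],
  .fc [⟨0,3,[0],[]⟩,⟨2,0,[982,982,990,990,986,990,986],[]⟩,⟨0,0,[759],[]⟩] [],
  .fc [⟨0,3,[0],[]⟩,⟨2,0,[982,990,980,978,988,982],[]⟩,⟨0,0,[766],[]⟩] [],
  .fc [⟨0,3,[0],[]⟩,⟨2,0,[976,986,978,980,988,984,980],[]⟩,⟨0,0,[538],[]⟩] [],
  .fc [⟨0,3,[0],[]⟩,⟨2,0,[980,980,986,986,988,980,986],[]⟩,⟨0,0,[537],[]⟩] [],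
  .fc [⟨0,3,[0],[]⟩,⟨2,0,[976,980,980,978,980,982],[]⟩,⟨0,0,[876],[]⟩] [],
  .fc [⟨0,3,[0],[]⟩,⟨2,0,[986,984,990,980,982],[]⟩,⟨0,0,[626],[]⟩] [],
  .fc [⟨0,3,[0],[]⟩,⟨2,0,[978,988,986,984,984,982],[]⟩,⟨0,0,[561],[]⟩] [],
  .fc [⟨0,3,[0],[]⟩,⟨2,0,[984,986,980,976,980,986],[]⟩,⟨0,0,[564],[]⟩] []]

theorem c1_14 : chk opsK elT1.get fsT1.get 1676 1029 c1_14_i 1626 979 = true := by decide +kernel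

/-- steps of the enumeration -/
noncomputable def c1_15_i : List Item :=
 [.fc [⟨0,3,[0],[]⟩,⟨2,0,[984,976,982,982,976,990],[]⟩,⟨0,0,[819],[]⟩] [],
  .fc [⟨0,3,[0],[]⟩,⟨2,0,[976,978,976,978,976,976,980],[]⟩,⟨0,0,[813],[]⟩] [],
  .fc [⟨0,3,[0],[]⟩,⟨2,0,[980,980,976,986,980,980,978],[]⟩,⟨0,0,[809],[]⟩] [],
  .fc [⟨0,3,[0],[]⟩,⟨2,0,[978,982,990,976,986,990,988],[]⟩,⟨0,0,[565],[]⟩] [],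
  .fc [⟨0,3,[0],[]⟩,⟨2,0,[978,986,980,984,976,978,976],[]⟩,⟨0,0,[817],[]⟩] [],
  .fc [⟨0,3,[0],[]⟩,⟨2,0,[980,980,976,990,986,990],[]⟩,⟨0,0,[634],[]⟩] [],
  .fc [⟨0,3,[0],[]⟩,⟨2,0,[982,978,978,982],[]⟩,⟨0,0,[709],[]⟩] [],
  .fc [⟨0,3,[0],[]⟩,⟨2,0,[980,990,982,980,978],[]⟩,⟨0,0,[702],[]⟩] [],
  .fc [⟨0,3,[0],[]⟩,⟨2,0,[978,978,986,990,988],[]⟩,⟨0,0,[755],[]⟩] [],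
  .fc [⟨0,3,[0],[]⟩,⟨2,0,[988,976,982,986,976],[]⟩,⟨0,0,[757],[]⟩] [],
  .fc [⟨0,3,[0],[]⟩,⟨2,0,[978,980,986,984,982,984,976],[]⟩,⟨0,0,[769],[]⟩] [],
  .fc [⟨0,3,[0],[]⟩,⟨2,0,[976,982,982,978,978,978,980],[]⟩,⟨0,0,[873],[]⟩] [],
  .fc [⟨0,3,[0],[]⟩,⟨2,0,[990,978,982,990,988,990],[]⟩,⟨0,0,[811],[]⟩] [],
  .fc [⟨0,3,[0],[]⟩,⟨2,0,[976,976,986,976,980,978,988,978],[]⟩,⟨0,0,[815],[]⟩] [],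
  .fc [⟨0,3,[0],[]⟩,⟨2,0,[982,986,982,982,980,988,984],[]⟩,⟨0,0,[825],[]⟩] [],
  .fc [⟨0,3,[0],[]⟩,⟨0,0,[614],[]⟩] [],
  .fc [⟨0,3,[0],[]⟩,⟨2,0,[1152,1154,1164,1160,1162],[]⟩,⟨0,0,[616],[]⟩] [],
  .fc [⟨0,3,[0],[]⟩,⟨2,0,[1160,1154,1156,1152],[]⟩,⟨0,0,[622],[]⟩] [],
  .fc [⟨0,3,[0],[]⟩,⟨2,0,[1152],[]⟩,⟨0,0,[624],[]⟩] [],
  .fc [⟨0,3,[0],[]⟩,⟨2,0,[1152,1156,1150,1158,1160,1158],[]⟩,⟨0,0,[713],[]⟩] [],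
  .fc [⟨0,3,[0],[]⟩,⟨2,0,[1152,1164,1156,1160,1156,1154],[]⟩,⟨0,0,[615],[]⟩] [],
  .fc [⟨0,3,[0],[]⟩,⟨2,0,[1162,1162,1162,1162,1162],[]⟩,⟨0,0,[723],[]⟩] [],
  .fc [⟨0,3,[0],[]⟩,⟨2,0,[1150,1154,1162,1158,1164,1164],[]⟩,⟨0,0,[611],[]⟩] [],
  .fc [⟨0,3,[0],[]⟩,⟨2,0,[1150,1156,1150,1152,1156,1162],[]⟩,⟨0,0,[720],[]⟩] [],
  .fc [⟨0,3,[0],[]⟩,⟨2,0,[1152,1152,1150,1156,1154,1150],[]⟩,⟨0,0,[717],[]⟩] [],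
  .fc [⟨0,3,[0],[]⟩,⟨2,0,[1154,1160,1160,1164,1152],[]⟩,⟨0,0,[620],[]⟩] [],
  .fc [⟨0,3,[0],[]⟩,⟨2,0,[1152,1158,1158,1152,1160,1158],[]⟩,⟨0,0,[618],[]⟩] [],
  .fc [⟨0,3,[0],[]⟩,⟨2,0,[1150,1162,1160,1156,1150,1162],[]⟩,⟨0,0,[609],[]⟩] [],
  .fc [⟨0,3,[0],[]⟩,⟨2,0,[1156,1158,1160,1154,1164,1158,1164],[]⟩,⟨0,0,[711],[]⟩] [],
  .fc [⟨0,3,[0],[]⟩,⟨2,0,[1150,1158,1150,1158,1160,1164,1158,1150],[]⟩,⟨0,0,[627],[]⟩] [],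
  .fc [⟨0,3,[0],[]⟩,⟨2,0,[1160,1160,1160,1160],[]⟩,⟨0,0,[629],[]⟩] [],
  .fc [⟨0,3,[0],[]⟩,⟨2,0,[1160,1160,1160,1160],[]⟩,⟨0,0,[632],[]⟩] [],
  .fc [⟨0,3,[0],[]⟩,⟨2,0,[1160,1160,1160,1160],[]⟩,⟨0,0,[635],[]⟩] [],
  .fc [⟨0,3,[0],[]⟩,⟨2,0,[1160,1160,1160,1160],[]⟩,⟨0,0,[637],[]⟩] [],
  .fc [⟨0,3,[0],[]⟩,⟨2,0,[1158,1164,1160,1160,1162,1154,1152],[]⟩,⟨0,0,[715],[]⟩] [],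
  .fc [⟨0,3,[0],[]⟩,⟨2,0,[1160,1160,1160,1160],[]⟩,⟨0,0,[789],[]⟩] [],
  .fc [⟨0,3,[0],[]⟩,⟨2,0,[1160,1160,1160,1160],[]⟩,⟨0,0,[827],[]⟩] [],
  .fc [⟨0,3,[0],[]⟩,⟨2,0,[1160,1160,1160,1160],[]⟩,⟨0,0,[829],[]⟩] [],
  .fc [⟨0,3,[0],[]⟩,⟨0,0,[725],[]⟩] [],
  .fc [⟨0,3,[0],[]⟩,⟨2,0,[1304,1302],[]⟩,⟨0,0,[745],[]⟩] [],
  .fc [⟨0,3,[0],[]⟩,⟨2,0,[1292,1296,1300,1300],[]⟩,⟨0,0,[728],[]⟩] [],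
  .fc [⟨0,3,[0],[]⟩,⟨2,0,[1302,1294],[]⟩,⟨0,0,[743],[]⟩] [],
  .fc [⟨0,3,[0],[]⟩,⟨2,0,[1294,1300],[]⟩,⟨0,0,[754],[]⟩] [],
  .fc [⟨0,3,[0],[]⟩,⟨2,0,[1296,1300,1294,1292,1304],[]⟩,⟨0,0,[749],[]⟩] [],
  .fc [⟨0,3,[0],[]⟩,⟨2,0,[1294,1302,1296],[]⟩,⟨0,0,[721],[]⟩] [],
  .fc [⟨0,3,[0],[]⟩,⟨2,0,[1290,1296,1300,1304,1300],[]⟩,⟨0,0,[692],[]⟩] [],
  .fc [⟨0,3,[0],[]⟩,⟨2,0,[1298,1294,1304,1302],[]⟩,⟨0,0,[734],[]⟩] [],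
  .fc [⟨0,3,[0],[]⟩,⟨2,0,[1290,1290,1296,1290,1294,1300],[]⟩,⟨0,0,[747],[]⟩] [],
  .fc [⟨0,3,[0],[]⟩,⟨2,0,[1290,1294,1296,1294,1300,1290],[]⟩,⟨0,0,[707],[]⟩] [],
  .fc [⟨0,3,[0],[]⟩,⟨2,0,[1290,1302,1298,1296,1300],[]⟩,⟨0,0,[682],[]⟩] [],
  .fc [⟨0,3,[0],[]⟩,⟨2,0,[1302,1300,1298,1298,1290],[]⟩,⟨0,0,[714],[]⟩] []]

theorem c1_15 : chk opsK elT1.get fsT1.get 1727 1080 c1_15_i 1676 1029 = true := by decide +kernel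

/-- steps of the enumeration -/
noncomputable def c1_16_i : List Item :=
 [.fc [⟨0,3,[0],[]⟩,⟨2,0,[1290,1296,1292,1292,1294,1298],[]⟩,⟨0,0,[705],[]⟩] [],
  .fc [⟨0,3,[0],[]⟩,⟨2,0,[1292,1304,1302,1302],[]⟩,⟨0,0,[724],[]⟩] [],
  .fc [⟨0,3,[0],[]⟩,⟨2,0,[1290,1298,1290,1292,1304],[]⟩,⟨0,0,[701],[]⟩] [],
  .fc [⟨0,3,[0],[]⟩,⟨2,0,[1294,1296,1292,1294],[]⟩,⟨0,0,[718],[]⟩] [],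
  .fc [⟨0,3,[0],[]⟩,⟨2,0,[1292,1292,1292,1294,1304],[]⟩,⟨0,0,[748],[]⟩] [],
  .fc [⟨0,3,[0],[]⟩,⟨2,0,[1302,1298,1292],[]⟩,⟨0,0,[726],[]⟩] [],
  .fc [⟨0,3,[0],[]⟩,⟨2,0,[1290,1298,1290,1296,1292],[]⟩,⟨0,0,[752],[]⟩] [],
  .fc [⟨0,3,[0],[]⟩,⟨2,0,[1296,1292,1298,1290],[]⟩,⟨0,0,[699],[]⟩] [],
  .fc [⟨0,3,[0],[]⟩,⟨2,0,[1292,1298,1298,1302,1296],[]⟩,⟨0,0,[730],[]⟩] [],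
  .fc [⟨0,3,[0],[]⟩,⟨2,0,[1290,1292,1290,1300,1296,1304],[]⟩,⟨0,0,[712],[]⟩] [],
  .fc [⟨0,3,[0],[]⟩,⟨2,0,[1302,1304,1296,1292],[]⟩,⟨0,0,[727],[]⟩] [],
  .fc [⟨0,3,[0],[]⟩,⟨2,0,[1304,1302,1296,1300,1296],[]⟩,⟨0,0,[731],[]⟩] [],
  .fc [⟨0,3,[0],[]⟩,⟨2,0,[1290,1294,1292,1292,1300,1294],[]⟩,⟨0,0,[746],[]⟩] [],
  .fc [⟨0,3,[0],[]⟩,⟨2,0,[1292,1302,1300,1292],[]⟩,⟨0,0,[737],[]⟩] [],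
  .fc [⟨0,3,[0],[]⟩,⟨2,0,[1292,1292,1300,1296],[]⟩,⟨0,0,[740],[]⟩] [],
  .fc [⟨0,3,[0],[]⟩,⟨2,0,[1292,1300,1290,1292,1302],[]⟩,⟨0,0,[751],[]⟩] [],
  .fc [⟨0,3,[0],[]⟩,⟨2,0,[1298,1290,1292,1304,1298],[]⟩,⟨0,0,[750],[]⟩] [],
  .fc [⟨0,3,[0],[]⟩,⟨2,0,[1294,1302,1294,1290,1300],[]⟩,⟨0,0,[780],[]⟩] [],
  .fc [⟨0,3,[0],[]⟩,⟨2,0,[1296,1302,1292,1296,1300],[]⟩,⟨0,0,[775],[]⟩] [],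
  .fc [⟨0,3,[0],[]⟩,⟨2,0,[1290,1298,1290,1300,1304,1296,1290],[]⟩,⟨0,0,[762],[]⟩] [],
  .fc [⟨0,3,[0],[]⟩,⟨2,0,[1302,1296,1294,1292,1300,1298],[]⟩,⟨0,0,[777],[]⟩] [],
  .fc [⟨0,3,[0],[]⟩,⟨2,0,[1290,1292,1296,1296,1302,1304,1292],[]⟩,⟨0,0,[767],[]⟩] [],
  .fc [⟨0,3,[0],[]⟩,⟨2,0,[1304,1298,1298,1296,1296,1302],[]⟩,⟨0,0,[776],[]⟩] [],
  .fc [⟨0,3,[0],[]⟩,⟨2,0,[1290,1302,1290,1292,1296,1296],[]⟩,⟨0,0,[881],[]⟩] [],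
  .fc [⟨0,3,[0],[]⟩,⟨2,0,[1300,1290,1294,1304,1298,1290],[]⟩,⟨0,0,[774],[]⟩] [],
  .fc [⟨0,3,[0],[]⟩,⟨2,0,[1290,1298,1294,1300,1302],[]⟩,⟨0,0,[878],[]⟩] [],
  .fc [⟨0,3,[0],[]⟩,⟨2,0,[1290,1290,1302,1304,1292,1300],[]⟩,⟨0,0,[791],[]⟩] [],
  .fc [⟨0,3,[0],[]⟩,⟨2,0,[1290,1300,1292,1302,1300,1298],[]⟩,⟨0,0,[792],[]⟩] [],
  .fc [⟨0,3,[0],[]⟩,⟨2,0,[1292,1290,1298,1296,1292],[]⟩,⟨0,0,[786],[]⟩] [],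
  .fc [⟨0,3,[0],[]⟩,⟨2,0,[1294,1290,1304,1296,1300],[]⟩,⟨0,0,[788],[]⟩] [],
  .fc [⟨0,3,[0],[]⟩,⟨2,0,[1294,1300,1300,1292,1304],[]⟩,⟨0,0,[794],[]⟩] [],
  .fc [⟨0,3,[0],[]⟩,⟨2,0,[1290,1294,1296,1298,1292,1292,1304],[]⟩,⟨0,0,[814],[]⟩] [],
  .fc [⟨0,3,[0],[]⟩,⟨2,0,[1296,1304,1296,1296,1302,1292],[]⟩,⟨0,0,[831],[]⟩] [],
  .fc [⟨0,3,[0],[]⟩,⟨2,0,[1290,1298,1296,1294,1298,1304,1290],[]⟩,⟨0,0,[820],[]⟩] [],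
  .fc [⟨0,3,[0],[]⟩,⟨2,0,[1296,1302,1290,1290,1302],[]⟩,⟨0,0,[832],[]⟩] [],
  .fc [⟨0,3,[0],[]⟩,⟨2,0,[1294,1296,1292,1294,1302],[]⟩,⟨0,0,[852],[]⟩] [],
  .fc [⟨0,3,[0],[]⟩,⟨2,0,[1298,1296,1296,1292,1298,1292],[]⟩,⟨0,0,[835],[]⟩] [],
  .fc [⟨0,3,[0],[]⟩,⟨2,0,[1290,1296,1300,1294,1296,1300,1304],[]⟩,⟨0,0,[810],[]⟩] [],
  .fc [⟨0,3,[0],[]⟩,⟨2,0,[1300,1296,1294,1302,1290,1298],[]⟩,⟨0,0,[834],[]⟩] [],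
  .fc [⟨0,3,[0],[]⟩,⟨2,0,[1296,1300,1294,1300,1302,1302,1304],[]⟩,⟨0,0,[836],[]⟩] [],
  .fc [⟨0,3,[0],[]⟩,⟨2,0,[1292,1290,1302,1304,1304,1296,1300],[]⟩,⟨0,0,[818],[]⟩] [],
  .fc [⟨0,3,[0],[]⟩,⟨2,0,[1302,1290,1294,1290,1290,1290],[]⟩,⟨0,0,[839],[]⟩] [],
  .fc [⟨0,3,[0],[]⟩,⟨2,0,[1296,1292,1294,1300,1300,1298,1296],[]⟩,⟨0,0,[838],[]⟩] [],
  .fc [⟨0,3,[0],[]⟩,⟨2,0,[1298,1292,1300,1304,1296],[]⟩,⟨0,0,[850],[]⟩] [],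
  .fc [⟨0,3,[0],[]⟩,⟨2,0,[1292,1304,1300,1296,1296],[]⟩,⟨0,0,[848],[]⟩] [],
  .fc [⟨0,3,[0],[]⟩,⟨2,0,[1302,1298,1296,1304,1304],[]⟩,⟨0,0,[887],[]⟩] [],
  .fc [⟨0,3,[0],[]⟩,⟨2,0,[1296,1292,1302,1290,1300,1298],[]⟩,⟨0,0,[842],[]⟩] [],
  .fc [⟨0,3,[0],[]⟩,⟨2,0,[1290,1294,1290,1300,1304,1298],[]⟩,⟨0,0,[840],[]⟩] []]

theorem c1_16 : chk opsK elT1.get fsT1.get 1775 1128 c1_16_i 1727 1080 = true := by decide +kernel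

/-- steps of the enumeration -/
noncomputable def c1_17_i : List Item :=
 [.fc [⟨0,3,[0],[]⟩,⟨2,0,[1290,1292,1304,1298,1298,1304,1302],[]⟩,⟨0,0,[841],[]⟩] [],
  .fc [⟨0,3,[0],[]⟩,⟨2,0,[1290,1292,1294,1290,1304,1292,1296],[]⟩,⟨0,0,[843],[]⟩] [],
  .fc [⟨0,3,[0],[]⟩,⟨2,0,[1290,1294,1296,1296,1300,1302,1300],[]⟩,⟨0,0,[847],[]⟩] [],
  .fc [⟨0,3,[0],[]⟩,⟨2,0,[1294,1294,1290,1298,1294,1304,1292],[]⟩,⟨0,0,[845],[]⟩] [],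
  .fc [⟨0,3,[0],[]⟩,⟨0,0,[883],[]⟩] [],
  .fc [⟨0,3,[0],[]⟩,⟨2,0,[1718,1726,1720,1726],[]⟩,⟨0,0,[884],[]⟩] [],
  .fc [⟨0,3,[0],[]⟩,⟨2,0,[1730,1728,1730,1724,1724,1722],[]⟩,⟨0,0,[885],[]⟩] [],
  .fc [⟨0,3,[0],[]⟩,⟨2,0,[1716,1720,1728,1728,1716,1716],[]⟩,⟨0,0,[872],[]⟩] [],
  .fc [⟨0,3,[0],[]⟩,⟨2,0,[1720,1726,1724,1716,1722,1716,1728,1722],[]⟩,⟨0,0,[882],[]⟩] [],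
  .fc [⟨0,3,[0],[]⟩,⟨2,0,[1716,1728,1720,1716,1718,1722,1726,1728],[]⟩,⟨0,0,[877],[]⟩] [],
  .fc [⟨0,3,[0],[]⟩,⟨2,0,[1720,1730,1726,1724,1728,1726,1724],[]⟩,⟨0,0,[879],[]⟩] [],
  .fc [⟨0,3,[0],[]⟩,⟨2,0,[1722,1716,1720,1724,1730,1716,1728],[]⟩,⟨0,0,[888],[]⟩] []]

theorem c1_17 : chk opsK elT1.get fsT1.get 1787 1140 c1_17_i 1775 1128 = true := by decide +kernel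

end CfsgLib.MonK.Dce
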