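import Mathlib
import Cfsg.Agent.Lib.MonK.Tab
import Cfsg.Agent.Lib.Mon.DceT2

/-!
Part 0 of the certificate of the double coset enumeration number 2 (generated by `tools/mon/genchunks.py`).
-/

set_option autoImplicit false
set_option maxRecDepth 100000
set_option Elab.async false

namespace CfsgLib.MonK.Dce

open CfsgLib.DCX CfsgLib.Mon.Dce

/-- steps of the enumeration -/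
noncomputable def c2_0_i : List Item :=
 [.fc [⟨1,2,[1],[16,8]⟩,⟨0,0,[2],[]⟩] [],
  .df [24,40,40,24,32,24,32,40],
  .df [24,40,32,32,32,40,32,32],
  .df [32,24,32,24,24,40,40,24],
  .df [40,24,40,40,40,40,32,32],
  .df [24,32,24,32,32,40,40,24],
  .df [40,32,24,40,24,40,32,24],
  .df [40,40,40,24,24,40,32,32],
  .df [8,16,16,40,32,16,16,24,24,8,16,32,40,32],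
  .df [16,40,16,32,32,8,8,40,8,32,16,24,32,40],
  .df [40,24,24,40,32,16,8,40,40,32,16,24,40,40],
  .fc [] [],
  .fc [] [25],
  .fc [] [33],
  .fc [⟨1,0,[4],[]⟩,⟨0,0,[1],[]⟩] [],
  .fc [⟨2,0,[10,10,10,12,10,10,12],[]⟩] [],
  .fc [⟨2,0,[10,10,12,10,12,10,10,10],[]⟩] [],
  .fc [⟨2,0,[10,10,12,12,12,10,12,10,10],[]⟩] [],
  .fc [⟨2,0,[10,10,12,10,10,12,12],[]⟩] [],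
  .fc [⟨2,0,[12,12,12,12,10,10,10,12],[]⟩] [],
  .fc [⟨2,0,[12,12,12,12,10,12,12,10,12],[]⟩] [],
  .fc [⟨2,0,[12,10,12,10,12,12,10],[]⟩] [],
  .fc [⟨2,0,[12,12,12,12,12,12,10,10],[]⟩] [],
  .fc [⟨1,0,[4],[]⟩,⟨0,0,[0],[]⟩] [],
  .fc [⟨0,0,[3],[]⟩] [],
  .fc [⟨1,0,[4],[]⟩,⟨0,0,[17],[]⟩] [],
  .fc [] [],
  .fc [⟨1,0,[19],[]⟩,⟨0,1,[1],[]⟩] [],
  .fc [⟨1,0,[19],[]⟩,⟨2,0,[20,20,30,16,28,30,22,28,22,30,22],[]⟩,⟨0,0,[19],[]⟩] [],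
  .df [80,64,4,16],
  .fc [⟨0,0,[3],[80,64]⟩] [],
  .df [56,328],
  .fc [⟨1,0,[18],[]⟩,⟨0,1,[22],[]⟩,⟨2,0,[20,30,28,24],[]⟩,⟨0,0,[19],[]⟩] [],
  .fc [⟨1,0,[23],[]⟩,⟨2,0,[26,20,28,20],[]⟩,⟨0,0,[19],[]⟩] [],
  .fc [⟨2,0,[42,48,42,48,42,42,42],[]⟩] [],
  .fc [⟨2,0,[48,42,42,48,48,48,48,48],[]⟩] [],
  .fc [⟨2,0,[42,48,48,42,42,48,48,42,48],[]⟩] [],
  .fc [⟨2,0,[42,48,42,42,48,48,48],[]⟩] [],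
  .fc [⟨2,0,[48,48,48,42,42,48,48,48],[]⟩] [],
  .fc [⟨2,0,[48,42,48,48,42,48,42,48,42],[]⟩] [],
  .fc [⟨2,0,[48,42,48,42,48,42,48],[]⟩] [],
  .fc [⟨2,0,[48,48,48,42,48,42,42,48],[]⟩] [],
  .fc [⟨1,0,[19],[]⟩,⟨0,1,[0],[]⟩,⟨2,0,[16,18,22,28,30],[]⟩,⟨0,0,[19],[]⟩] [],
  .fc [] [],
  .fc [⟨1,0,[34],[]⟩,⟨0,1,[1],[]⟩] [],
  .fc [⟨1,0,[34],[]⟩,⟨2,0,[24,18,16,18,30,28,26,18,18,16,22,28,16],[]⟩,⟨0,0,[34],[]⟩] [],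
  .df [64,4,16],
  .fc [⟨0,0,[3],[64]⟩] [],
  .df [56,552],
  .fc [⟨1,0,[18],[]⟩,⟨0,1,[37],[]⟩,⟨2,0,[16,20,20,26,22,30],[]⟩,⟨0,0,[34],[]⟩] [],
  .fc [⟨1,0,[38],[]⟩,⟨2,0,[20,18,28,30,26,16],[]⟩,⟨0,0,[34],[]⟩] [],
  .fc [⟨2,0,[72,72,72,72,72,72,78],[]⟩] [],
  .fc [⟨2,0,[78,72,78,72,78,78,72,72],[]⟩] [],
  .fc [⟨2,0,[72,78,78,78,72,72,72,72,78],[]⟩] [],
  .fc [⟨2,0,[78,78,72,72,78,78,78],[]⟩] [],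
  .fc [⟨2,0,[72,78,72,78,78,72,72,72],[]⟩] [],
  .fc [⟨2,0,[78,72,72,78,72,78,78,78,72],[]⟩] [],
  .fc [⟨2,0,[78,78,72,72,78,72,78],[]⟩] [],
  .fc [⟨2,0,[78,72,72,78,72,72,78,78],[]⟩] []]

theorem c2_0 : chk opsK.res elT2.get fsT2.get 92 48 c2_0_i 6 3 = true := by decide +kernel

/-- steps of the enumeration -/
noncomputable def c2_1_i : List Item :=
 [.fc [⟨1,0,[19],[]⟩,⟨0,1,[37],[]⟩,⟨2,0,[18,20,26,16,16,20],[]⟩,⟨0,0,[34],[]⟩] [],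
  .df [744,8],
  .fc [⟨1,0,[48],[]⟩,⟨0,2,[1],[]⟩] [],
  .fc [⟨1,0,[34],[]⟩,⟨0,1,[0],[]⟩,⟨2,0,[20,20,20,20],[]⟩,⟨0,0,[34],[]⟩] [],
  .df [72,4,16],
  .fc [⟨0,0,[3],[72]⟩] [],
  .fc [⟨1,0,[34],[]⟩,⟨0,1,[51],[]⟩,⟨2,0,[18,22,20,28,24,24],[]⟩,⟨0,0,[34],[]⟩] [],
  .df [72,72,4,16],
  .fc [⟨0,0,[3],[72,72]⟩] [],
  .fc [⟨1,0,[34],[]⟩,⟨0,1,[53],[]⟩,⟨2,0,[20,24,28,28,28],[]⟩,⟨0,0,[34],[]⟩] [],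
  .fc [] [],
  .fc [⟨1,0,[55],[]⟩,⟨0,1,[1],[]⟩] [],
  .fc [⟨1,0,[55],[]⟩,⟨2,0,[26,18,18,28,22,30,30,22,30,22,30,22,18],[]⟩,⟨0,0,[55],[]⟩] [],
  .fc [⟨1,0,[55],[]⟩,⟨2,0,[18,24,16,24,28,20,22,22,22,30,22,16,24,18],[]⟩,⟨0,0,[55],[]⟩] [],
  .fc [⟨2,0,[116,114,116,114,114,114,116],[]⟩] [],
  .fc [⟨2,0,[114,114,114,116,114,116,116,116],[]⟩] [],
  .fc [⟨2,0,[116,114,114,114,114,114,116,116,116],[]⟩] [],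
  .fc [⟨2,0,[116,116,116,114,116,114,114],[]⟩] [],
  .fc [⟨2,0,[114,116,114,116,116,114,116,114],[]⟩] [],
  .fc [⟨2,0,[116,114,114,116,116,114,116,114,116],[]⟩] [],
  .fc [⟨2,0,[114,116,116,116,116,114,114],[]⟩] [],
  .fc [⟨2,0,[114,116,116,114,114,116,114,114],[]⟩] [],
  .df [80,4,16],
  .fc [⟨0,0,[3],[80]⟩] [],
  .fc [⟨1,0,[19],[]⟩,⟨0,1,[67],[]⟩,⟨2,0,[26,20,16,20,24],[]⟩,⟨0,0,[55],[]⟩] [],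
  .df [1048,8],
  .fc [⟨1,0,[68],[]⟩,⟨0,2,[1],[]⟩] [],
  .fc [⟨1,0,[34],[]⟩,⟨0,1,[17],[]⟩,⟨2,0,[22,24,24,16,30],[]⟩,⟨0,0,[55],[]⟩] [],
  .df [1088,8],
  .fc [⟨1,0,[70],[]⟩,⟨0,2,[1],[]⟩] [],
  .fc [⟨1,0,[55],[]⟩,⟨0,1,[0],[]⟩,⟨2,0,[22,22,28,22,18],[]⟩,⟨0,0,[55],[]⟩] [],
  .fc [⟨1,0,[55],[]⟩,⟨0,1,[17],[]⟩,⟨2,0,[16,26,30,22,20,30],[]⟩,⟨0,0,[55],[]⟩] [],
  .df [96,4,16],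
  .fc [⟨0,0,[3],[96]⟩] [],
  .fc [⟨1,0,[55],[]⟩,⟨0,1,[74],[]⟩,⟨2,0,[24,22,22,16,18],[]⟩,⟨0,0,[55],[]⟩] [],
  .df [1048,328],
  .fc [⟨1,0,[68],[]⟩,⟨0,2,[22],[]⟩,⟨2,0,[64,64,58,58,58],[]⟩,⟨0,0,[68],[]⟩] [],
  .fc [] [],
  .fc [⟨1,0,[77],[]⟩,⟨0,2,[1],[]⟩] [],
  .fc [⟨1,0,[77],[]⟩,⟨2,0,[60,64,58,62,54,50,52,62,60,50,58,62,52],[]⟩,⟨0,0,[77],[]⟩] [],
  .fc [⟨1,0,[77],[]⟩,⟨2,0,[52,60,60,64,56,60,54,52,58,60,50,64,52,60],[]⟩,⟨0,0,[77],[]⟩] [],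
  .fc [⟨1,0,[77],[]⟩,⟨2,0,[60,64,62,52,60,52,60,56,52,62,54],[]⟩,⟨0,0,[77],[]⟩] [],
  .fc [⟨2,0,[162,162,160,158,162,160,160],[]⟩] [],
  .fc [⟨2,0,[158,158,160,160,162,160,158,160],[]⟩] [],
  .fc [⟨2,0,[160,162,162,162,162,162,162,158,160],[]⟩] [],
  .fc [⟨2,0,[158,160,160,158,162,158,158],[]⟩] [],
  .fc [⟨2,0,[162,160,162,158,160,158,158,158],[]⟩] [],
  .fc [⟨2,0,[160,158,158,158,162,158,162,158,162],[]⟩] [],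
  .fc [⟨2,0,[158,162,160,158,160,160,162],[]⟩] [],
  .fc [⟨2,0,[158,160,158,158,160,158,158,162],[]⟩] [],
  .df [744,552],
  .fc [⟨1,0,[48],[]⟩,⟨0,2,[37],[]⟩,⟨2,0,[50,58,60,62,50],[]⟩,⟨0,0,[77],[]⟩] [],
  .df [1400,8]]

theorem c2_1 : chk opsK.res elT2.get fsT2.get 177 91 c2_1_i 92 48 = true := by decide +kernel

/-- steps of the enumeration -/
noncomputable def c2_2_i : List Item :=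
 [.fc [⟨1,0,[90],[]⟩,⟨0,2,[1],[]⟩] [],
  .df [1048,552],
  .fc [⟨1,0,[68],[]⟩,⟨0,2,[37],[]⟩,⟨2,0,[52,56,58,64,58,64],[]⟩,⟨0,0,[77],[]⟩] [],
  .df [1448,8],
  .fc [⟨1,0,[92],[]⟩,⟨0,2,[1],[]⟩] [],
  .fc [⟨1,0,[77],[]⟩,⟨0,2,[0],[]⟩,⟨2,0,[58,58,54,58,50],[]⟩,⟨0,0,[77],[]⟩] [],
  .fc [⟨1,0,[77],[]⟩,⟨0,2,[37],[]⟩,⟨2,0,[54,52,52,50,56,50],[]⟩,⟨0,0,[77],[]⟩] [],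
  .fc [⟨1,0,[77],[]⟩,⟨0,2,[67],[]⟩,⟨2,0,[54,64,58,50,62],[]⟩,⟨0,0,[77],[]⟩] [],
  .df [104,4,16],
  .fc [⟨0,0,[3],[104]⟩] [],
  .fc [⟨1,0,[77],[]⟩,⟨0,2,[97],[]⟩,⟨2,0,[50,54,64,56,62,54],[]⟩,⟨0,0,[77],[]⟩] [],
  .df [1088,328],
  .fc [⟨1,0,[70],[]⟩,⟨0,2,[22],[]⟩,⟨2,0,[80,92,82,80,84,84],[]⟩,⟨0,0,[90],[]⟩] [],
  .df [1576,8],
  .fc [⟨1,0,[99],[]⟩,⟨0,2,[1],[]⟩] [],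
  .df [1400,792],
  .fc [⟨1,0,[90],[]⟩,⟨0,2,[51],[]⟩,⟨2,0,[90,82,84,92,80,82],[]⟩,⟨0,0,[90],[]⟩] [],
  .df [1400,1528],
  .fc [⟨1,0,[90],[]⟩,⟨0,2,[97],[]⟩,⟨2,0,[94,94,82,92,92],[]⟩,⟨0,0,[90],[]⟩] [],
  .df [1400,328],
  .fc [⟨1,0,[90],[]⟩,⟨0,2,[22],[]⟩,⟨2,0,[80,80,90,86],[]⟩,⟨0,0,[90],[]⟩] [],
  .fc [] [],
  .fc [⟨1,0,[104],[]⟩,⟨0,2,[1],[]⟩] [],
  .fc [⟨1,0,[104],[]⟩,⟨2,0,[92,90,84,90,84,88,84,84,94,94,86,90],[]⟩,⟨0,0,[104],[]⟩] [],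
  .df [816,552],
  .fc [⟨1,0,[52],[]⟩,⟨0,2,[37],[]⟩,⟨2,0,[80,80,90,88],[]⟩,⟨0,0,[104],[]⟩] [],
  .fc [⟨1,0,[107],[]⟩,⟨2,0,[82,88,82,90,84,84],[]⟩,⟨0,0,[104],[]⟩] [],
  .fc [⟨2,0,[212,212,216,216,212,212,212],[]⟩] [],
  .fc [⟨2,0,[216,216,216,212,212,212,216,212],[]⟩] [],
  .fc [⟨2,0,[212,212,212,212,212,212,216,216,212],[]⟩] [],
  .fc [⟨2,0,[216,216,212,212,216,216,212],[]⟩] [],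
  .fc [⟨2,0,[212,216,212,216,212,216,216,212],[]⟩] [],
  .fc [⟨2,0,[212,216,216,212,216,216,212,212,216],[]⟩] [],
  .fc [⟨2,0,[212,212,212,212,216,216,212],[]⟩] [],
  .fc [⟨2,0,[212,212,216,212,212,212,216,212],[]⟩] [],
  .df [1088,1024],
  .fc [⟨1,0,[70],[]⟩,⟨0,2,[67],[]⟩,⟨2,0,[94,82,88,90,80,92],[]⟩,⟨0,0,[104],[]⟩] [],
  .df [1880,8],
  .fc [⟨1,0,[117],[]⟩,⟨0,2,[1],[]⟩] [],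
  .df [1400,552],
  .fc [⟨1,0,[90],[]⟩,⟨0,2,[37],[]⟩,⟨2,0,[80,80,80,84,94,82],[]⟩,⟨0,0,[104],[]⟩] [],
  .df [1928,8],
  .fc [⟨1,0,[119],[]⟩,⟨0,3,[1],[]⟩] [],
  .df [96,72,4,16],
  .fc [⟨0,0,[3],[96,72]⟩] [],
  .df [1400,1960],
  .fc [⟨1,0,[90],[]⟩,⟨0,2,[121],[]⟩,⟨2,0,[86,84,82,86,86,92],[]⟩,⟨0,0,[104],[]⟩] [],
  .df [1992,8],
  .fc [⟨1,0,[122],[]⟩,⟨0,3,[1],[]⟩] [],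
  .fc [⟨1,0,[104],[]⟩,⟨0,2,[0],[]⟩,⟨2,0,[86,80],[]⟩,⟨0,0,[104],[]⟩] [],
  .fc [⟨1,0,[104],[]⟩,⟨0,2,[51],[]⟩,⟨2,0,[80,80,86,94,84,86],[]⟩,⟨0,0,[104],[]⟩] [],
  .fc [⟨1,0,[104],[]⟩,⟨0,2,[74],[]⟩,⟨2,0,[86,80,88,92,84],[]⟩,⟨0,0,[104],[]⟩] [],
  .df [136,128],
  .fc [] [],
  .fc [⟨1,0,[127],[]⟩,⟨0,2,[1],[]⟩] [],
  .fc [⟨1,0,[127],[]⟩,⟨2,0,[132,126,128,122,120,124,118,128,126],[]⟩,⟨0,0,[127],[]⟩] [],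
  .df [1200,1960],
  .fc [⟨1,0,[76],[]⟩,⟨0,2,[121],[]⟩,⟨2,0,[124,124,118,132],[]⟩,⟨0,0,[127],[]⟩] [],
  .fc [⟨1,0,[130],[]⟩,⟨2,0,[118,124,132,122],[]⟩,⟨0,0,[127],[]⟩] [],
  .fc [⟨2,0,[258,262,258,262,258,258,262],[]⟩] []]

theorem c2_2 : chk opsK.res elT2.get fsT2.get 270 133 c2_2_i 177 91 = true := by decide +kernel

/-- steps of the enumeration -/
noncomputable def c2_3_i : List Item :=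
 [.fc [⟨2,0,[258,258,258,262,262,262,258,258],[]⟩] [],
  .fc [⟨2,0,[262,258,262,262,258,258,262,262,258],[]⟩] [],
  .fc [⟨2,0,[258,258,258,258,262,258,258],[]⟩] [],
  .fc [⟨2,0,[258,262,258,258,262,258,262,258],[]⟩] [],
  .fc [⟨2,0,[258,258,258,258,258,262,262,262,262],[]⟩] [],
  .fc [⟨2,0,[258,258,258,258,262,262,262],[]⟩] [],
  .fc [⟨2,0,[258,262,258,262,258,262,262,258],[]⟩] [],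
  .df [112,72,4,16],
  .fc [⟨0,0,[3],[112,72]⟩] [],
  .df [1448,2272],
  .fc [⟨1,0,[92],[]⟩,⟨0,2,[140],[]⟩,⟨2,0,[118,122,124,132],[]⟩,⟨0,0,[127],[]⟩] [],
  .df [2304,8],
  .fc [⟨1,0,[141],[]⟩,⟨0,3,[1],[]⟩] [],
  .fc [⟨1,0,[127],[]⟩,⟨0,2,[0],[]⟩,⟨2,0,[128,118,118,118],[]⟩,⟨0,0,[127],[]⟩] [],
  .fc [] [],
  .fc [⟨1,0,[144],[]⟩,⟨0,2,[1],[]⟩] [],
  .fc [⟨1,0,[144],[]⟩,⟨2,0,[118,126,120,130,120,128,122,130,126,118,128],[]⟩,⟨0,0,[144],[]⟩] [],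
  .df [1200,792],
  .fc [⟨1,0,[76],[]⟩,⟨0,2,[51],[]⟩,⟨2,0,[118,122,126,120,124,122],[]⟩,⟨0,0,[144],[]⟩] [],
  .fc [⟨1,0,[147],[]⟩,⟨2,0,[128,130,122,118,132],[]⟩,⟨0,0,[144],[]⟩] [],
  .fc [⟨2,0,[296,292,292,296,296,292,292],[]⟩] [],
  .fc [⟨2,0,[292,296,296,296,292,296,296,292],[]⟩] [],
  .fc [⟨2,0,[296,296,292,292,292,292,296,296,296],[]⟩] [],
  .fc [⟨2,0,[296,296,296,296,292,296,292],[]⟩] [],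
  .fc [⟨2,0,[296,292,296,292,296,296,296,292],[]⟩] [],
  .fc [⟨2,0,[296,292,292,292,296,296,296,292,292],[]⟩] [],
  .fc [⟨2,0,[292,296,292,292,296,296,292],[]⟩] [],
  .fc [⟨2,0,[296,296,296,296,292,292,292,292],[]⟩] [],
  .df [1448,552],
  .fc [⟨1,0,[92],[]⟩,⟨0,2,[37],[]⟩,⟨2,0,[126,122,132,128,118],[]⟩,⟨0,0,[144],[]⟩] [],
  .df [2552,8],
  .fc [⟨1,0,[157],[]⟩,⟨0,3,[1],[]⟩] [],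
  .df [1448,1960],
  .fc [⟨1,0,[92],[]⟩,⟨0,2,[121],[]⟩,⟨2,0,[120,130,124,118,126],[]⟩,⟨0,0,[144],[]⟩] [],
  .df [2600,8],
  .fc [⟨1,0,[159],[]⟩,⟨0,3,[1],[]⟩] [],
  .df [1576,792],
  .fc [⟨1,0,[99],[]⟩,⟨0,2,[51],[]⟩,⟨2,0,[118,126,120,122,128],[]⟩,⟨0,0,[144],[]⟩] [],
  .df [2648,8],
  .fc [⟨1,0,[161],[]⟩,⟨0,3,[1],[]⟩] [],
  .df [1880,552],
  .fc [⟨1,0,[117],[]⟩,⟨0,2,[37],[]⟩,⟨2,0,[118,120,130,130,124,130],[]⟩,⟨0,0,[144],[]⟩] [],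
  .df [2696,8],
  .fc [⟨1,0,[163],[]⟩,⟨0,3,[1],[]⟩] [],
  .fc [⟨1,0,[127],[]⟩,⟨0,2,[97],[]⟩,⟨2,0,[118,120,130,126,130,130],[]⟩,⟨0,0,[144],[]⟩] [],
  .df [2736,8],
  .fc [⟨1,0,[165],[]⟩,⟨0,3,[1],[]⟩] [],
  .fc [⟨1,0,[144],[]⟩,⟨0,2,[0],[]⟩,⟨2,0,[118,118,132,132,124,120],[]⟩,⟨0,0,[144],[]⟩] [],
  .fc [⟨1,0,[144],[]⟩,⟨0,2,[17],[]⟩,⟨2,0,[118,122,122,122,124,118],[]⟩,⟨0,0,[144],[]⟩] [],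
  .fc [⟨1,0,[144],[]⟩,⟨0,2,[74],[]⟩,⟨2,0,[126,120,124,122,128],[]⟩,⟨0,0,[144],[]⟩] [],
  .fc [⟨1,0,[144],[]⟩,⟨0,2,[97],[]⟩,⟨2,0,[120,128,124,124,120,130],[]⟩,⟨0,0,[144],[]⟩] [],
  .df [2552,792],
  .fc [⟨1,0,[157],[]⟩,⟨0,3,[51],[]⟩,⟨2,0,[164,166,174,164,166,172],[]⟩,⟨0,0,[157],[]⟩] [],
  .df [2552,1024],
  .fc [⟨1,0,[157],[]⟩,⟨0,3,[67],[]⟩,⟨2,0,[170,166,168,174,178],[]⟩,⟨0,0,[161],[]⟩] [],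
  .fc [] [],
  .fc [⟨1,0,[173],[]⟩,⟨0,3,[1],[]⟩] [],
  .fc [⟨1,0,[173],[]⟩,⟨2,0,[270,270,274,276,264,278,278,276,268,268,270,264,278],[]⟩,⟨0,0,[173],[]⟩] []]

theorem c2_3 : chk opsK.res elT2.get fsT2.get 362 176 c2_3_i 270 133 = true := by decide +kernel

/-- steps of the enumeration -/
noncomputable def c2_4_i : List Item :=
 [.df [2328,792],
  .fc [⟨1,0,[142],[]⟩,⟨0,3,[51],[]⟩,⟨2,0,[272,264,272,266,270],[]⟩,⟨0,0,[173],[]⟩] [],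
  .df [2912,8],
  .fc [⟨1,0,[176],[]⟩,⟨0,3,[1],[]⟩] [],
  .df [2736,792],
  .fc [⟨1,0,[165],[]⟩,⟨0,3,[51],[]⟩,⟨2,0,[264,264,276,274,272,276],[]⟩,⟨0,0,[173],[]⟩] [],
  .df [2960,8],
  .fc [⟨1,0,[178],[]⟩,⟨0,3,[1],[]⟩] [],
  .fc [⟨1,0,[173],[]⟩,⟨0,3,[0],[]⟩,⟨2,0,[272,276,272,274],[]⟩,⟨0,0,[173],[]⟩] [],
  .fc [⟨1,0,[173],[]⟩,⟨0,3,[51],[]⟩,⟨2,0,[264,276,266,264,270,272],[]⟩,⟨0,0,[173],[]⟩] [],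
  .df [88,64,4,16],
  .fc [⟨0,0,[3],[88,64]⟩] [],
  .fc [⟨1,0,[173],[]⟩,⟨0,3,[182],[]⟩,⟨2,0,[264,266,274,266,276,268],[]⟩,⟨0,0,[173],[]⟩] [],
  .df [2576,552],
  .fc [⟨1,0,[158],[]⟩,⟨0,3,[37],[]⟩,⟨2,0,[298,310,302,310,300,304],[]⟩,⟨0,0,[178],[]⟩] [],
  .fc [⟨1,0,[184],[]⟩,⟨2,0,[176,168,168,172,166],[]⟩,⟨0,0,[176],[]⟩] [],
  .fc [⟨2,0,[350,350,350,350,370,350,370],[]⟩] [],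
  .fc [⟨2,0,[370,350,370,350,370,350,350,370],[]⟩] [],
  .fc [⟨2,0,[350,370,370,370,370,350,350,370,350],[]⟩] [],
  .fc [⟨2,0,[350,370,350,350,350,370,350],[]⟩] [],
  .fc [⟨2,0,[370,370,370,350,370,350,370,370],[]⟩] [],
  .fc [⟨2,0,[370,350,370,370,370,350,370,370,370],[]⟩] [],
  .fc [⟨2,0,[370,350,350,370,370,350,350],[]⟩] [],
  .fc [⟨2,0,[350,370,370,370,350,370,350,370],[]⟩] [],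
  .df [1928,552],
  .fc [⟨1,0,[119],[]⟩,⟨0,3,[37],[]⟩,⟨2,0,[170,168,178,176,170],[]⟩,⟨0,0,[176],[]⟩] [],
  .df [3240,8],
  .fc [⟨1,0,[194],[]⟩,⟨0,3,[1],[]⟩] [],
  .df [2552,1152],
  .fc [⟨1,0,[157],[]⟩,⟨0,3,[74],[]⟩,⟨2,0,[176,178,172,166,178],[]⟩,⟨0,0,[176],[]⟩] [],
  .df [3288,8],
  .fc [⟨1,0,[196],[]⟩,⟨0,3,[1],[]⟩] [],
  .df [64,64,4,16],
  .fc [⟨0,0,[3],[64,64]⟩] [],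
  .df [2912,3320],
  .fc [⟨1,0,[176],[]⟩,⟨0,3,[198],[]⟩,⟨2,0,[166,174,178,176,164],[]⟩,⟨0,0,[176],[]⟩] [],
  .fc [⟨0,1,[0],[]⟩,⟨0,0,[16],[]⟩] [],
  .fc [⟨0,1,[0],[]⟩,⟨2,0,[24,20,16,26],[]⟩,⟨0,0,[18],[]⟩] [],
  .fc [⟨0,1,[0],[]⟩,⟨2,0,[16,18,22,28,30],[]⟩,⟨0,0,[19],[]⟩] [],
  .fc [⟨0,1,[0],[]⟩,⟨2,0,[20,20,20,20],[]⟩,⟨0,0,[34],[]⟩] [],
  .fc [⟨0,1,[0],[]⟩,⟨2,0,[22,22,28,22,18],[]⟩,⟨0,0,[55],[]⟩] [],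
  .fc [⟨0,2,[0],[]⟩,⟨0,0,[33],[]⟩] [],
  .fc [⟨0,2,[0],[]⟩,⟨2,0,[52,50,56,62,52],[]⟩,⟨0,0,[48],[]⟩] [],
  .fc [⟨0,2,[0],[]⟩,⟨2,0,[60,58,64,54],[]⟩,⟨0,0,[68],[]⟩] [],
  .fc [⟨0,2,[0],[]⟩,⟨2,0,[58,58,54,58,50],[]⟩,⟨0,0,[77],[]⟩] [],
  .fc [⟨0,2,[0],[]⟩,⟨0,0,[50],[]⟩] [],
  .fc [⟨0,2,[0],[]⟩,⟨0,0,[54],[]⟩] [],
  .fc [⟨0,2,[0],[]⟩,⟨2,0,[86,90,86],[]⟩,⟨0,0,[52],[]⟩] [],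
  .fc [⟨0,2,[0],[]⟩,⟨2,0,[80,80,86,86],[]⟩,⟨0,0,[70],[]⟩] [],
  .fc [⟨0,2,[0],[]⟩,⟨2,0,[80,86],[]⟩,⟨0,0,[90],[]⟩] [],
  .fc [⟨0,2,[0],[]⟩,⟨2,0,[86,80],[]⟩,⟨0,0,[104],[]⟩] [],
  .fc [⟨0,2,[0],[]⟩,⟨0,0,[72],[]⟩] [],
  .fc [⟨0,2,[0],[]⟩,⟨2,0,[122,122],[]⟩,⟨0,0,[75],[]⟩] [],
  .fc [⟨0,2,[0],[]⟩,⟨2,0,[118,118,128,128],[]⟩,⟨0,0,[73],[]⟩] [],
  .fc [⟨0,2,[0],[]⟩,⟨2,0,[128,120,124,118],[]⟩,⟨0,0,[76],[]⟩] [],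
  .fc [⟨0,2,[0],[]⟩,⟨2,0,[132,126,130,132,128],[]⟩,⟨0,0,[92],[]⟩] []]

theorem c2_4 : chk opsK.res elT2.get fsT2.get 444 220 c2_4_i 362 176 = true := by decide +kernel

/-- steps of the enumeration -/
noncomputable def c2_5_i : List Item :=
 [.fc [⟨0,2,[0],[]⟩,⟨2,0,[128,130,118,124],[]⟩,⟨0,0,[99],[]⟩] [],
  .fc [⟨0,2,[0],[]⟩,⟨2,0,[120,130,132,122],[]⟩,⟨0,0,[117],[]⟩] [],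
  .fc [⟨0,2,[0],[]⟩,⟨2,0,[128,118,118,118],[]⟩,⟨0,0,[127],[]⟩] [],
  .fc [⟨0,2,[0],[]⟩,⟨2,0,[118,118,132,132,124,120],[]⟩,⟨0,0,[144],[]⟩] [],
  .fc [⟨0,3,[0],[]⟩,⟨0,0,[94],[]⟩] [],
  .fc [⟨0,3,[0],[]⟩,⟨2,0,[172,176],[]⟩,⟨0,0,[98],[]⟩] [],
  .fc [⟨0,3,[0],[]⟩,⟨2,0,[166,170,178,174],[]⟩,⟨0,0,[96],[]⟩] [],
  .fc [⟨0,3,[0],[]⟩,⟨2,0,[166,176,178,166],[]⟩,⟨0,0,[95],[]⟩] [],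
  .fc [⟨0,3,[0],[]⟩,⟨2,0,[164,168],[]⟩,⟨0,0,[103],[]⟩] [],
  .fc [⟨0,3,[0],[]⟩,⟨2,0,[166,164,174,164,164],[]⟩,⟨0,0,[101],[]⟩] [],
  .fc [⟨0,3,[0],[]⟩,⟨2,0,[166,170,164,170],[]⟩,⟨0,0,[119],[]⟩] [],
  .fc [⟨0,3,[0],[]⟩,⟨2,0,[164,166,166,174,170],[]⟩,⟨0,0,[122],[]⟩] [],
  .fc [⟨0,3,[0],[]⟩,⟨2,0,[164,164,176,166],[]⟩,⟨0,0,[159],[]⟩] [],
  .fc [⟨0,3,[0],[]⟩,⟨2,0,[178,178],[]⟩,⟨0,0,[157],[]⟩] [],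
  .fc [⟨0,3,[0],[]⟩,⟨2,0,[178,178],[]⟩,⟨0,0,[161],[]⟩] [],
  .fc [⟨0,3,[0],[]⟩,⟨2,0,[178,178],[]⟩,⟨0,0,[176],[]⟩] [],
  .fc [⟨0,3,[0],[]⟩,⟨0,0,[124],[]⟩] [],
  .fc [⟨0,3,[0],[]⟩,⟨2,0,[222,228,218],[]⟩,⟨0,0,[126],[]⟩] [],
  .fc [⟨0,3,[0],[]⟩,⟨2,0,[228,228,228],[]⟩,⟨0,0,[120],[]⟩] [],
  .fc [⟨0,3,[0],[]⟩,⟨2,0,[226,222,226],[]⟩,⟨0,0,[125],[]⟩] [],
  .fc [⟨0,3,[0],[]⟩,⟨2,0,[220,220,220,220,220,220],[]⟩,⟨0,0,[163],[]⟩] [],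
  .fc [⟨0,3,[0],[]⟩,⟨2,0,[218,220,224,220,220],[]⟩,⟨0,0,[194],[]⟩] [],
  .fc [⟨0,3,[0],[]⟩,⟨0,0,[143],[]⟩] [],
  .fc [⟨0,3,[0],[]⟩,⟨2,0,[270,266,276,276],[]⟩,⟨0,0,[165],[]⟩] [],
  .fc [⟨0,3,[0],[]⟩,⟨2,0,[272,276,272,274],[]⟩,⟨0,0,[173],[]⟩] [],
  .fc [⟨0,3,[0],[]⟩,⟨0,0,[167],[]⟩] [],
  .fc [⟨0,3,[0],[]⟩,⟨2,0,[308,306,312,300],[]⟩,⟨0,0,[168],[]⟩] [],
  .fc [⟨0,3,[0],[]⟩,⟨2,0,[298,306,312],[]⟩,⟨0,0,[166],[]⟩] [],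
  .fc [⟨0,3,[0],[]⟩,⟨2,0,[302,300,302],[]⟩,⟨0,0,[169],[]⟩] [],
  .fc [⟨0,3,[0],[]⟩,⟨2,0,[310,308,312,304],[]⟩,⟨0,0,[170],[]⟩] [],
  .fc [⟨0,3,[0],[]⟩,⟨2,0,[308,306,310,310,298],[]⟩,⟨0,0,[171],[]⟩] [],
  .fc [⟨0,3,[0],[]⟩,⟨2,0,[300,298,302,306,300,298],[]⟩,⟨0,0,[196],[]⟩] [],
  .fc [⟨0,3,[0],[]⟩,⟨2,0,[312,312,310,304,300],[]⟩,⟨0,0,[178],[]⟩] [],
  .fc [⟨0,4,[0],[]⟩,⟨0,0,[180],[]⟩] [],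
  .fc [⟨0,4,[0],[]⟩,⟨2,0,[372,374,386,374],[]⟩,⟨0,0,[181],[]⟩] [],
  .fc [⟨0,4,[0],[]⟩,⟨2,0,[374,372,374,372,382,376],[]⟩,⟨0,0,[183],[]⟩] [],
  .fc [⟨0,4,[0],[]⟩,⟨0,0,[199],[]⟩] [],
  .fc [⟨0,4,[0],[]⟩,⟨2,0,[380,374,380,374],[]⟩,⟨0,0,[197],[]⟩] []]

theorem c2_5 : chk opsK.res elT2.get fsT2.get 508 258 c2_5_i 444 220 = true := by decide +kernel

end CfsgLib.MonK.Dce
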