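import Mathlib
import Cfsg.Agent.Lib.DCX.Ops

/-!
# A kernel model of `C = 2^(1+24).Co₁`: the operations

A datum consists of the images of the 24 generators of the Pauli group (25 bits each, at distance 32), the matrix of the
element of `Co₀` modulo 3 (13 bits for each entry) and the signs of the first column of the matrix of degree 4096.
-/

set_option autoImplicit false

namespace CfsgLib.MonK

open CfsgLib.Comput

/-- `m` repeated `n` times at distance `w` -/
def rp (m w n : ℕ) : ℕ := Nat.mul m (Nat.div (Nat.sub (Nat.pow 2 (Nat.mul w n)) 1) (Nat.sub (Nat.pow 2 w) 1))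

/-- bit `i` of `a` -/
def tb (a i : ℕ) : Bool := Nat.beq (Nat.land (Nat.shiftRight a i) 1) 1

/-! ### images of Pauli elements -/

def R1 : ℕ := rp 1 32 25
def RS : ℕ := rp 16777216 32 25
def P768 : ℕ := Nat.pow 2 768

/-- add the parities of the 12-bit fields of `p` to the signs -/
def cfin (acc p : ℕ) : ℕ :=
  let p1 := Nat.xor p (Nat.shiftRight p 6)
  let p2 := Nat.xor p1 (Nat.shiftRight p1 3)
  Nat.xor acc (Nat.shiftLeft (Nat.land (Nat.xor (Nat.xor p2 (Nat.shiftRight p2 1)) (Nat.shiftRight p2 2)) R1) 24)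

noncomputable def compL (A B n : ℕ) : ℕ → ℕ → ℕ :=
  Nat.rec cfin (fun i ih acc p =>
    let t := Nat.mul (Nat.land (Nat.shiftRight B i) R1) (Nat.land (Nat.shiftRight A (Nat.mul 32 i)) 33554431)
    ih (Nat.xor acc t) (Nat.xor p (Nat.land (Nat.shiftRight t 12) acc))) n

/-- the images under `A` of the 25 codes in `B` -/
noncomputable def comp (A B : ℕ) : ℕ := compL A B 24 (Nat.land B RS) 0

/-! ### matrices modulo 3 -/

def RS3 : ℕ := rp 3 325 24
def D63 : ℕ := rp 63 13 600
def D1 : ℕ := rp 1 13 600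
def D2 : ℕ := rp 2 13 600
def P325 : ℕ := Nat.pow 2 325
def IM : ℕ := rp 1 338 24

def red3 (x : ℕ) : ℕ := Nat.sub x (Nat.mul 3 (Nat.land (Nat.shiftRight (Nat.mul 43 x) 7) D63))

noncomputable def mulL (A B n : ℕ) : ℕ :=
  Nat.rec 0 (fun j ih => Nat.add ih (Nat.mul (Nat.land (Nat.shiftRight B (Nat.mul 13 j)) RS3)
    (Nat.mod (Nat.shiftRight A (Nat.mul 325 j)) P325))) n

noncomputable def mulM (A B : ℕ) : ℕ := red3 (mulL A B 24)

def negM (A : ℕ) : ℕ := red3 (Nat.mul 2 A)

/-! ### vectors of length 4096 with entries `0, 1, -1` -/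

def P4096 : ℕ := Nat.pow 2 4096
def Q4096 : ℕ := Nat.succ P4096

/-- the positions `p < 8192` with bit `i` clear -/
def MK (i : ℕ) : ℕ := rp (Nat.sub (Nat.pow 2 (Nat.pow 2 i)) 1) (Nat.pow 2 (Nat.succ i)) (Nat.pow 2 (Nat.sub 12 i))

noncomputable def zkL (b n : ℕ) : ℕ :=
  Nat.rec 0 (fun i ih => Bool.rec ih (Nat.xor ih (Nat.mod (Nat.shiftLeft (MK i) (Nat.pow 2 i)) P4096)) (tb b i)) n

/-- the positions where `± Z^b` is `-1` -/
noncomputable def zk (b : ℕ) : ℕ := Bool.rec (zkL b 12) (Nat.xor (zkL b 12) (Nat.sub P4096 1)) (tb b 12)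

/-- change the signs at the positions in `z` -/
def flip (z W : ℕ) : ℕ :=
  let t := Nat.land (Nat.xor (Nat.shiftRight W 4096) W) z
  Nat.xor (Nat.xor W t) (Nat.shiftLeft t 4096)

def stage (i W : ℕ) : ℕ :=
  Nat.lor (Nat.shiftLeft (Nat.land W (MK i)) (Nat.pow 2 i)) (Nat.land (Nat.shiftRight W (Nat.pow 2 i)) (MK i))

noncomputable def xsL (r n : ℕ) : ℕ → ℕ :=
  Nat.rec (fun W => W) (fun i ih W => Bool.rec (ih W) (ih (stage i W)) (tb r i)) n

/-- the Pauli element with code `r` applied to `W` -/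
noncomputable def pw (r W : ℕ) : ℕ :=
  force (Nat.land (Nat.shiftRight r 12) 63) fun b => force (Nat.land (Nat.shiftRight r 12) 8128) fun c =>
    xsL r 12 (flip (Nat.xor (zk b) (zk c)) W)

/-- a nonnegative multiple of `U + V` -/
noncomputable def add2 (U V : ℕ) : ℕ :=
  let A := Nat.land U V
  let X := Nat.xor U V
  Bool.rec (Bool.rec 0 A (Nat.beq (Nat.mod X P4096) (Nat.shiftRight X 4096))) X (Nat.beq A 0)

noncomputable def chain (im n : ℕ) : ℕ → ℕ :=
  Nat.rec (fun U => U) (fun i ih U =>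
    force (Nat.land (Nat.shiftRight im (Nat.mul 32 (Nat.add 12 i))) 33554431) fun r =>
      force (add2 U (pw r U)) ih) n

/-- the basis vector `± e_j` -/
def unit (s j : ℕ) : ℕ := Nat.shiftLeft 1 (Nat.add (Nat.mul 4096 s) j)

/-- the sign at position `j` -/
noncomputable def rd (W j : ℕ) (k : ℕ → Bool) : Bool :=
  let t := Nat.land (Nat.shiftRight W j) Q4096
  Bool.rec (band (Nat.beq t P4096) (k 1)) (k 0) (Nat.beq t 1)

noncomputable def lgL (n : ℕ) : ℕ → ℕ → ℕ :=
  Nat.rec (fun _ q => q) (fun i ih W q =>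
    let V := Nat.shiftRight W (Nat.pow 2 i)
    Bool.rec (ih V (Nat.add q (Nat.pow 2 i))) (ih W q) (Nat.beq V 0)) n

/-- a position in the support -/
noncomputable def lg (W : ℕ) : ℕ := Nat.mod (lgL 13 W 0) 4096

/-! ### the model -/

structure X where
  im : ℕ
  M : ℕ
  W : ℕ

noncomputable def mk3 (a b c : ℕ) (k : X → Bool) : Bool :=
  force a fun a => force b fun b => force c fun c => k ⟨a, b, c⟩

noncomputable def mulX (x y : X) (k : X → Bool) : Bool :=
  force (lg y.W) fun j => rd y.W j fun s =>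
    force (comp x.im (Nat.xor y.im (Nat.shiftLeft (Nat.add j (Nat.mul s 16777216)) 768))) fun c =>
      force (Nat.mod c P768) fun im => force (pw (Nat.shiftRight c 768) x.W) fun U =>
        mk3 im (mulM x.M y.M) (Bool.rec (chain im 12 U) U (Nat.beq y.W (unit s j))) k

/-- exchange the bits in `m` with those `s` places higher -/
def dsw (s m x : ℕ) : ℕ :=
  let t := Nat.land (Nat.xor x (Nat.shiftRight x s)) m
  Nat.xor (Nat.xor x t) (Nat.shiftLeft t s)

def T16 : ℕ := rp 0xffff0000 32 16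
def T8 : ℕ := rp (rp 0xff00ff00 32 8) 512 2
def T4 : ℕ := rp (rp 0xf0f0f0f0 32 4) 256 4
def T2 : ℕ := rp (rp 0xcccccccc 32 2) 128 8
def T1 : ℕ := rp 0xaaaaaaaa 64 16
def RV : ℕ := rp 16777215 32 24
def P384 : ℕ := Nat.pow 2 384

/-- exchange the two halves of 24 rows -/
def swr (a : ℕ) : ℕ := Nat.lor (Nat.shiftRight a 384) (Nat.shiftLeft (Nat.mod a P384) 384)

/-- the inverse of a symplectic matrix -/
def trI (im : ℕ) : ℕ :=
  swr (dsw 31 T1 (dsw 62 T2 (dsw 124 T4 (dsw 248 T8 (dsw 496 T16 (swr (Nat.land im RV)))))))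

def Q312 : ℕ := Nat.sub (Nat.pow 2 312) 1

noncomputable def trL (A n : ℕ) : ℕ :=
  Nat.rec 0 (fun j ih => Nat.lor ih (Nat.shiftLeft (Nat.mod (Nat.land (Nat.shiftRight A (Nat.mul 13 j)) RS3) Q312)
    (Nat.mul 325 j))) n

def II : ℕ := rp 1 33 24
def RS24 : ℕ := rp 16777216 32 24
def R12 : ℕ := rp 1 32 12

/-- a position in the support of the first row -/
noncomputable def rowPos (im W : ℕ) : ℕ :=
  let p := Nat.land (Nat.shiftRight im 396) (Nat.mul (lg W) R12)
  Nat.mod (Nat.shiftRight (cfin 0 p) 24) 2147483647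

noncomputable def invX (x : X) (k : X → Bool) : Bool :=
  force (trI x.im) fun T => force (Nat.mod (rowPos x.im x.W) 4096) fun j =>
    force (comp x.im (Nat.xor (Nat.land T RV) (Nat.shiftLeft j 768))) fun c =>
      band (Nat.beq (Nat.land c RV) II) <|
        rd (pw (Nat.shiftRight c 768) x.W) 0 fun s =>
          force (Nat.xor (Nat.land T RV) (Nat.land c RS24)) fun im =>
            force (red3 (Nat.land (trL x.M 24) D63)) fun M => band (Nat.beq (mulM x.M M) IM) <|
              mk3 im M (chain im 12 (unit s j)) k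

/-- move the bits in `m` up by `s` places -/
def mv (s m x : ℕ) : ℕ :=
  let t := Nat.land x m
  Nat.lor (Nat.xor x t) (Nat.shiftLeft t s)

def ones (n : ℕ) : ℕ := Nat.sub (Nat.pow 2 n) 1
def E0 : ℕ := Nat.shiftLeft (ones 384) 768
def E1 : ℕ := rp (Nat.shiftLeft (ones 384) 384) 5200 2
def E2 : ℕ := rp (Nat.shiftLeft (ones 192) 192) 2600 3
def E3 : ℕ := rp (Nat.shiftLeft (ones 96) 96) 1300 6
def E4 : ℕ := rp (Nat.shiftLeft (ones 48) 48) 650 12
def E5 : ℕ := rp (Nat.shiftLeft (ones 16) 32) 325 24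
def E6 : ℕ := rp (rp 0xffff0000 208 2) 325 24
def E7 : ℕ := rp (rp 0xff00 104 3) 325 24
def E8 : ℕ := rp (rp 0xf0 52 6) 325 24
def E9 : ℕ := rp (rp 0xc 26 12) 325 24
def P1152 : ℕ := Nat.pow 2 1152

/-- the matrix modulo 3 of a literal -/
def expM (d : ℕ) : ℕ :=
  mv 11 E9 (mv 22 E8 (mv 44 E7 (mv 88 E6 (mv 176 E5 (mv 277 E4 (mv 554 E3 (mv 1108 E2 (mv 2216 E1 (mv 4432 E0
    (Nat.mod (Nat.shiftRight d 768) P1152))))))))))

/-- the position named by a literal -/
def pos (d : ℕ) : ℕ := Nat.mod (Nat.shiftRight d 1920) 4096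

def RX : ℕ := rp 4095 32 12

/-- the column of a literal -/
noncomputable def expW (d : ℕ) : ℕ :=
  Bool.rec (chain d 12 (unit 0 (pos d))) (unit 0 (pos d)) (Nat.beq (Nat.land (Nat.shiftRight d 384) RX) 0)

noncomputable def loadX (d : ℕ) (k : X → Bool) : Bool := mk3 (Nat.mod d P768) (expM d) (expW d) k

noncomputable def storeX (x : X) (d : ℕ) : Bool :=
  band (Nat.beq x.im (Nat.mod d P768)) <|
    rd x.W (pos d) fun s => Nat.beq (Bool.rec (negM x.M) x.M (Nat.beq s 0)) (expM d)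

/-- `x` centralises the elements with the codes in `cs` -/
noncomputable def inX (cs : ℕ) (x : X) : Bool := Nat.beq (comp x.im cs) cs

/-- `x` lies in `E` -/
noncomputable def isE (x : X) : Bool :=
  band (Nat.beq (Nat.land (Nat.shiftRight x.im 736) 16777215) 8388608) <|
    band (Nat.beq (Nat.land (Nat.shiftRight x.im 352) 16781311) 2048) <|
      Bool.rec (band (Nat.beq x.W P4096) (Nat.beq (Nat.land x.M D1) 0)) (Nat.beq (Nat.land x.M D2) 0) (Nat.beq x.W 1)

def Q325 : ℕ := Nat.sub P325 1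
def P78 : ℕ := Nat.pow 2 78

/-- the signs in the rows of a monomial matrix -/
def sgs (M : ℕ) : ℕ := Nat.mod (Nat.land (Nat.shiftRight M 1) D1) Q325

def ix1 (x : X) : ℕ := Nat.mod (Nat.mod (sgs x.M) P78) 4095
def ix2 (x : X) : ℕ := Nat.mod (Nat.mod (Nat.shiftRight (sgs x.M) 78) P78) 4095
noncomputable def ix3 (x : X) : ℕ := Nat.land (lg x.W) 63
noncomputable def ix4 (x : X) : ℕ :=
  let k := lg x.W
  let r := Nat.shiftRight x.im 352
  Nat.add (Nat.shiftRight k 6) (Nat.add
    (Bool.rec (Bool.rec 0 32 (Nat.ble P4096 x.W)) (Bool.rec 32 0 (Nat.ble P4096 x.W)) (Nat.beq (Nat.land x.M D1) 0))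
    (Nat.shiftRight (cfin (Nat.land r 16777216) (Nat.land (Nat.shiftRight r 12) k)) 18))

/-- remove the table entry `i` from `x` and multiply `a` by its partner -/
noncomputable def alS (tab : ℕ → ℕ) (b i : ℕ) (x a : X) (k : X → X → Bool) : Bool :=
  force i fun i => Bool.rec
    (force (Nat.mod (Nat.add b i) 320) fun i => force (tab (Nat.mul 2 i)) fun d => loadX d fun u => mulX u x fun m =>
      force (tab (Nat.succ (Nat.mul 2 i))) fun e => loadX e fun v => mulX a v fun c => k m c)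
    (k x a) (Nat.beq i 0)

noncomputable def alX (tab : ℕ → ℕ) (x : X) (k : X → Bool) : Bool :=
  force (Nat.mod (ix1 x) 320) fun i => force (tab (Nat.mul 2 i)) fun d => loadX d fun u => mulX u x fun m =>
    force (tab (Nat.succ (Nat.mul 2 i))) fun e => loadX e fun a =>
      alS tab 64 (ix2 x) m a fun m a => alS tab 128 (ix3 m) m a fun m a => alS tab 192 (ix4 m) m a fun m a =>
        band (isE m) (mulX a m k)

/-- the model, for a table of pairs and a list of codes -/
noncomputable def opsT (tab : ℕ → ℕ) (cs : ℕ) : DCX.Ops X := ⟨loadX, storeX, mulX, invX, alX tab, inX cs⟩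

end CfsgLib.MonK
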